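import Cfsg.Agent.DR.E3
import Cfsg.Agent.GW.Cv2

/-! Groups generated by two binary octahedral subgroups. -/

set_option autoImplicit false
set_option linter.unusedSectionVars false
set_option linter.unusedSimpArgs false
open Subgroup TensorProduct
open scoped commutatorElement

namespace Cfsg.Agent.DR.E

/-- group relations of the binary octahedral group -/
structure OcG {G : Type*} [Group G] (ε g i j x : G) : Prop where
  gg : g * g = i
  ii : i * i = ε
  jj : j * j = ε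
  ji : j * i = ε * (i * j)
  gj : g * j = i * (j * g)
  xi : x * i = j * x
  xj : x * j = i * (j * x)
  xxx : x * (x * x) = 1
  gx : g * x = i * (j * (x * (x * g)))

variable {G : Type*} [Group G] {ε g i j x x' : G}

theorem OcG.map {H : Type*} [Group H] (f : G →* H) (h : OcG ε g i j x) :
    OcG (f ε) (f g) (f i) (f j) (f x) := by
  refine ⟨?_, ?_, ?_, ?_, ?_, ?_, ?_, ?_, ?_⟩ <;>
    simp only [← map_mul, h.gg, h.ii, h.jj, h.ji, h.gj, h.xi, h.xj, h.xxx, h.gx, map_one]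

theorem OcG.oc {R : Type*} [Ring R] (f : G →* R) (he : f ε = -1) (h : OcG ε g i j x) :
    Oc (f g) (f i) (f j) (f x) := by
  refine ⟨⟨?_, ?_, ?_, ?_, ?_⟩, ?_, ?_, ?_, ?_⟩
  pick_goal 4
  · rw [← map_mul, h.ji, map_mul, he, map_mul, neg_one_mul]
  all_goals
    simp only [← map_mul, h.gg, h.ii, h.jj, h.gj, h.xi, h.xj, h.xxx, h.gx, map_one, he]

theorem OcG.triv (h : OcG ε g i j x) (c : ∀ a b : G, a * b = b * a) : i = 1 ∧ j = 1 ∧ x = 1 := by
  have i1 : i = 1 := by
    have := h.gj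
    rw [c j g] at this
    exact (right_eq_mul.1 this)
  have j1 : j = 1 := by
    have := h.xi
    rw [i1, mul_one] at this
    exact right_eq_mul.1 this
  refine ⟨i1, j1, ?_⟩
  have := h.gx
  rw [i1, j1, one_mul, one_mul, c g x] at this
  exact right_eq_mul.1 this

theorem exists_simple_quot (G : Type*) [Group G] [Finite G] [Nontrivial G] :
    ∃ (N : Subgroup G) (_ : N.Normal), IsSimpleGroup (G ⧸ N) := by
  obtain ⟨N, hN⟩ := (Set.toFinite {N : Subgroup G | N.Normal ∧ N ≠ ⊤}).exists_maximal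
    ⟨⊥, inferInstance, bot_ne_top⟩
  have := hN.1.1
  have : Nontrivial (G ⧸ N) := QuotientGroup.nontrivial_iff.2 hN.1.2
  refine ⟨N, inferInstance, ⟨fun K hK => ?_⟩⟩
  by_cases h : K.comap (QuotientGroup.mk' N) = ⊤
  · right
    rw [← map_comap_eq_self_of_surjective (QuotientGroup.mk'_surjective N) K, h]
    exact map_top_of_surjective _ (QuotientGroup.mk'_surjective N)
  · left
    have h1 : N ≤ K.comap (QuotientGroup.mk' N) := fun a ha => by
      rw [mem_comap, QuotientGroup.mk'_apply, (QuotientGroup.eq_one_iff a).2 ha]; exact K.one_mem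
    have h2 := hN.2 ⟨hK.comap _, h⟩ h1
    rw [eq_bot_iff]
    intro a ha
    obtain ⟨b, rfl⟩ := QuotientGroup.mk'_surjective N a
    exact (QuotientGroup.eq_one_iff b).2 (h2 ha)

theorem L59.five {X : Type*} [Group X] (h : L59 X) : 5 ∣ Nat.card X := by
  obtain ⟨F, _, _, hF, ⟨e⟩⟩ := h
  have := GW.card_psl (F := F) (by rcases hF with h | h <;> rw [h] <;> decide)
  rw [Nat.card_congr e.toEquiv]
  rcases hF with h | h <;> rw [h] at this <;> omega

theorem gen_top [Finite G] (hg : ∀ H : Subgroup G, H ≠ ⊤ → Good H) (h5 : ¬ 5 ∣ Nat.card G)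
    (e1 : ε ≠ 1) (h : OcG ε g i j x) (h' : OcG ε g i (g * j) x') :
    closure {g, j, x, x'} = ⊤ := by
  by_contra hne
  obtain ⟨H, hH⟩ : ∃ H, H = closure {g, j, x, x'} := ⟨_, rfl⟩
  have mg : g ∈ H := hH ▸ subset_closure (by simp)
  have mj : j ∈ H := hH ▸ subset_closure (by simp)
  have mx : x ∈ H := hH ▸ subset_closure (by simp)
  have mx' : x' ∈ H := hH ▸ subset_closure (by simp)
  have mi : i ∈ H := h.gg ▸ H.mul_mem mg mg
  have me : ε ∈ H := h.jj ▸ H.mul_mem mj mj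
  have : Nontrivial H := ⟨⟨⟨ε, me⟩, 1, fun e => e1 (congrArg Subtype.val e)⟩⟩
  obtain ⟨N, hN, hs⟩ := exists_simple_quot H
  refine h5 (((L59.five (hg H (hH ▸ hne) N hs fun hc => ?_)).trans
    (card_quotient_dvd_card N)).trans (card_subgroup_dvd_card H))
  have c : ∀ a b : H ⧸ N, a * b = b * a := fun a b => hc.is_comm.comm a b
  have k : OcG (⟨ε, me⟩ : H) ⟨g, mg⟩ ⟨i, mi⟩ ⟨j, mj⟩ ⟨x, mx⟩ :=
    ⟨Subtype.ext h.gg, Subtype.ext h.ii, Subtype.ext h.jj, Subtype.ext h.ji, Subtype.ext h.gj,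
      Subtype.ext h.xi, Subtype.ext h.xj, Subtype.ext h.xxx, Subtype.ext h.gx⟩
  have k' : OcG (⟨ε, me⟩ : H) ⟨g, mg⟩ ⟨i, mi⟩ (⟨g, mg⟩ * ⟨j, mj⟩) ⟨x', mx'⟩ :=
    ⟨Subtype.ext h'.gg, Subtype.ext h'.ii, Subtype.ext h'.jj, Subtype.ext h'.ji, Subtype.ext h'.gj,
      Subtype.ext h'.xi, Subtype.ext h'.xj, Subtype.ext h'.xxx, Subtype.ext h'.gx⟩
  obtain ⟨-, a2, a3⟩ := (k.map (QuotientGroup.mk' N)).triv c
  obtain ⟨-, a4, a5⟩ := (k'.map (QuotientGroup.mk' N)).triv c
  rw [map_mul, a2, mul_one] at a4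
  have key : H ≤ N.map H.subtype := by
    nth_rewrite 1 [hH]
    rw [closure_le]
    rintro y (rfl | rfl | rfl | rfl)
    · exact ⟨_, (QuotientGroup.eq_one_iff _).1 a4, rfl⟩
    · exact ⟨_, (QuotientGroup.eq_one_iff _).1 a2, rfl⟩
    · exact ⟨_, (QuotientGroup.eq_one_iff _).1 a3, rfl⟩
    · exact ⟨_, (QuotientGroup.eq_one_iff _).1 a5, rfl⟩
  refine QuotientGroup.nontrivial_iff.1 hs.toNontrivial (eq_top_iff.2 fun a _ => ?_)
  obtain ⟨b, hb, e⟩ := key a.2
  exact (Subtype.ext e : b = a) ▸ hb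

theorem norm_cases {ε : G} (h : Hy G ε) (K : Subgroup G) [K.Normal] : K ≤ center G ∨ K = ⊤ := by
  have := h.simp
  have := h.perf
  rcases (Normal.map ‹K.Normal› _ (QuotientGroup.mk'_surjective (center G))).eq_bot_or_eq_top with
    h1 | h1
  · left
    rwa [Subgroup.map_eq_bot_iff, QuotientGroup.ker_mk'] at h1
  · right
    rw [eq_top_iff, ← Group.IsPerfect.commutator_eq_top (G := G), _root_.commutator_def,
      commutator_le]
    intro a _ b _
    obtain ⟨k, hk, e⟩ : QuotientGroup.mk' (center G) a ∈ K.map _ := h1 ▸ mem_top _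
    obtain ⟨z, hz, rfl⟩ := (QuotientGroup.mk'_eq_mk' _).1 e
    have hz' := mem_center_iff.1 hz
    have : ⁅k * z, b⁆ = k * (b * k⁻¹ * b⁻¹) := by
      rw [commutatorElement_def, mul_assoc k z b, ← hz' b]; group
    rw [this]
    exact K.mul_mem hk (Normal.conj_mem ‹_› _ (K.inv_mem hk) b)

theorem core [Finite G] {R : Type*} [Ring R] [Algebra ℚ R] (ρ : G →* R) (ok : Ok R)
    (hρ : Function.Injective ρ) (he : ρ ε = -1) (hy : Hy G ε) (h : OcG ε g i j x)
    (h' : OcG ε g i (g * j) x') (gen : closure {g, j, x, x'} = ⊤) {u : G} (uZ : u ∉ center G)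
    {p : ℕ} (hp : p.Prime) (hp' : ¬ p ∣ 5040) (hu : u ^ p = 1)
    (hc : ∀ m : Fin 5, ∃ h, u * h = h * u ^ ((m.val + 1) ^ 2)) : False := by
  obtain ⟨B, hB, hm⟩ := exB ρ
  let ρ' : G →* B := ρ.codRestrict B hm
  have he' : ρ' ε = -1 := Subtype.ext he
  have o3 : O3 B := fun a b c h1 h2 h3 h4 h5 h6 h7 h8 h9 =>
    (ok.o3 a b c (congrArg Subtype.val h1) (congrArg Subtype.val h2) (congrArg Subtype.val h3)
      (congrArg Subtype.val h4) (congrArg Subtype.val h5) (congrArg Subtype.val h6)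
      (congrArg Subtype.val h7) (congrArg Subtype.val h8) (congrArg Subtype.val h9)).imp
      Subtype.ext (Or.imp Subtype.ext Subtype.ext)
  have : Nontrivial B := ⟨⟨ρ' ε, ρ' 1, fun e => hy.e1 (hρ (congrArg Subtype.val e))⟩⟩
  let ι : B →+* ℂ ⊗[ℚ] B := (Algebra.TensorProduct.includeRight : B →ₐ[ℚ] ℂ ⊗[ℚ] B).toRingHom
  have : Nontrivial (ℂ ⊗[ℚ] B) :=
    (Algebra.TensorProduct.includeRight_injective (R := ℚ) (A := ℂ) (B := B)
      (algebraMap ℚ ℂ).injective).nontrivial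
  let σ : G →* ℂ ⊗[ℚ] B := ι.toMonoidHom.comp ρ'
  have o1 := h.oc ρ' he'
  have o2 := h'.oc ρ' he'
  have a1 : Alt _ _ _ _ := o1.exb o3
  have a2 : Alt _ _ _ _ := o2.exb o3
  have a3 := a2.map ι
  rw [map_mul, map_mul] at a3
  obtain ⟨W, W0, W4, s1, s2, s3, s4⟩ := inv4' (o1.toQ16.map ι) (a1.map ι) a3
  have hs : ∀ y, σ y ∈ stab W := by
    intro y
    have hy : y ∈ closure {g, j, x, x'} := gen ▸ mem_top y
    induction hy using closure_induction with
    | mem y hy => rcases hy with rfl | rfl | rfl | rfl <;> assumption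
    | one => rw [map_one]; exact one_mem _
    | mul _ _ _ _ h1 h2 => rw [map_mul]; exact mul_mem h1 h2
    | inv y _ h1 =>
      have : y⁻¹ = y ^ (orderOf y - 1) := by
        rw [inv_eq_iff_mul_eq_one, ← pow_succ', Nat.sub_add_cancel (orderOf_pos y),
          pow_orderOf_eq_one]
      rw [this, map_pow]; exact pow_mem h1 _
  refine fin4 σ W4 hs hp hp' hu ?_ hc
  by_contra hw
  push Not at hw
  let K : Subgroup G :=
    { carrier := {y | ∀ w ∈ W, σ y * w = w}
      mul_mem' := fun ha hb w hw => by rw [map_mul, mul_assoc, hb w hw, ha w hw]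
      one_mem' := fun w _ => by rw [map_one, one_mul]
      inv_mem' := fun {a} ha w hw => by
        nth_rewrite 1 [← ha w hw]
        rw [← mul_assoc, ← map_mul, inv_mul_cancel, map_one, one_mul] }
  have : K.Normal := ⟨fun a ha y w hw => by
    rw [map_mul, map_mul, mul_assoc, mul_assoc, ha _ (hs _ w hw), ← mul_assoc, ← map_mul,
      mul_inv_cancel, map_one, one_mul]⟩
  rcases norm_cases hy K with h1 | h1
  · exact uZ (h1 hw)
  · obtain ⟨w, hw, w0⟩ := (Submodule.ne_bot_iff W).1 W0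
    have h2 : σ ε * w = w := (h1 ▸ mem_top ε : ε ∈ K) w hw
    have h3 : σ ε = -1 := by
      show ι (ρ' ε) = -1
      rw [he', map_neg, map_one]
    rw [h3, neg_one_mul] at h2
    have h4 : (2 : ℂ) • w = 0 := by rw [two_smul]; nth_rewrite 1 [← h2]; exact neg_add_cancel w
    exact w0 ((smul_eq_zero.1 h4).resolve_left two_ne_zero)

end Cfsg.Agent.DR.E
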