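import Cfsg.Agent.DR.E4
import Cfsg.Agent.H9.SL2

/-! The endgame: `SL₂(q)` and `2.A₇`. -/

set_option autoImplicit false
set_option linter.unusedSectionVars false
set_option linter.unusedSimpArgs false
open Subgroup MatrixGroups

namespace Cfsg.Agent.DR.E
open H9

theorem numth {q p n k : ℕ} (hp : p.Prime) (h1 : q = p ^ n) (h2 : q = 2 ^ k + 1) (h3 : 3 < q) :
    q = 5 ∨ q = 9 ∨ (8 ∣ q - 1 ∧ ¬ p ∣ 5040 ∧ ¬ 5 ∣ q * (q ^ 2 - 1)) := by
  have n0 : n ≠ 0 := by rintro rfl; simp at h1; omega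
  have pq : p ∣ q := h1 ▸ dvd_pow_self p n0
  have pe : ∀ r : ℕ, r.Prime → r ∣ q → p = r := fun r hr h =>
    ((Nat.prime_dvd_prime_iff_eq hr hp).1 (hr.dvd_of_dvd_pow (h1 ▸ h))).symm
  have k2 : 2 ≤ k := by
    by_contra hk
    have : k = 0 ∨ k = 1 := by omega
    rcases this with rfl | rfl <;> omega
  have m15 : ∀ m : ℕ, 16 ^ m % 15 = 1 := fun m => by simp [Nat.pow_mod]
  have m80 : ∀ m : ℕ, 81 ^ m % 80 = 1 := fun m => by simp [Nat.pow_mod]
  have m24 : ∀ m : ℕ, 25 ^ m % 24 = 1 := fun m => by simp [Nat.pow_mod]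
  have m7 : ∀ m : ℕ, 8 ^ m % 7 = 1 := fun m => by simp [Nat.pow_mod]
  have e4 : 2 ^ k = 16 ^ (k / 4) * 2 ^ (k % 4) := by
    rw [show 16 = 2 ^ 4 by rfl, ← pow_mul, ← pow_add, Nat.div_add_mod]
  have e3 : 2 ^ k = 8 ^ (k / 3) * 2 ^ (k % 3) := by
    rw [show 8 = 2 ^ 3 by rfl, ← pow_mul, ← pow_add, Nat.div_add_mod]
  have d16 : 4 ≤ k → 16 ∣ 2 ^ k := fun h => pow_dvd_pow 2 h
  have d8 : 3 ≤ k → 8 ∣ 2 ^ k := fun h => pow_dvd_pow 2 h
  have d4 : 4 ∣ 2 ^ k := pow_dvd_pow 2 k2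
  have a15 := m15 (k / 4)
  have a7 := m7 (k / 3)
  have three : 3 ∣ q → q = 9 := by
    intro h
    obtain rfl := pe 3 Nat.prime_three h
    have e : 3 ^ n = 81 ^ (n / 4) * 3 ^ (n % 4) := by
      rw [show 81 = 3 ^ 4 by rfl, ← pow_mul, ← pow_add, Nat.div_add_mod]
    have a := m80 (n / 4)
    have hk : k = 3 := by
      have : n % 4 = 0 ∨ n % 4 = 1 ∨ n % 4 = 2 ∨ n % 4 = 3 := by omega
      have : k % 4 = 0 ∨ k % 4 = 1 ∨ k % 4 = 2 ∨ k % 4 = 3 := by omega
      rcases ‹n % 4 = 0 ∨ _› with b | b | b | b <;> rcases this with c | c | c | c <;>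
        simp only [b, c] at e e4 <;> omega
    rw [h2, hk]; rfl
  have : k % 4 = 0 ∨ k % 4 = 1 ∨ k % 4 = 2 ∨ k % 4 = 3 := by omega
  rcases this with c | c | c | c <;> simp only [c] at e4
  · refine Or.inr (Or.inr ⟨by omega, fun h => ?_, ?_⟩)
    · have h7 : ¬ 7 ∣ q := by
        have : k % 3 = 0 ∨ k % 3 = 1 ∨ k % 3 = 2 := by omega
        rcases this with d | d | d <;> simp only [d] at e3 <;> omega
      have : p ∣ 2 ^ 4 * 3 ^ 2 * 5 * 7 := h
      simp only [hp.dvd_mul] at this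
      rcases this with ((h | h) | h) | h
      · obtain rfl := (Nat.prime_dvd_prime_iff_eq hp Nat.prime_two).1 (hp.dvd_of_dvd_pow h)
        omega
      · obtain rfl := (Nat.prime_dvd_prime_iff_eq hp Nat.prime_three).1 (hp.dvd_of_dvd_pow h)
        omega
      · obtain rfl := (Nat.prime_dvd_prime_iff_eq hp Nat.prime_five).1 h
        omega
      · obtain rfl := (Nat.prime_dvd_prime_iff_eq hp (by norm_num)).1 h
        omega
    · obtain ⟨t, rfl⟩ : ∃ t, q = 5 * t + 2 := ⟨q / 5, by omega⟩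
      rw [show (5 * t + 2) ^ 2 - 1 = 5 * (5 * t ^ 2 + 4 * t) + 3 by
        rw [Nat.sub_eq_iff_eq_add (Nat.one_le_pow _ _ (by omega))]; ring]
      rw [show (5 * t + 2) * (5 * (5 * t ^ 2 + 4 * t) + 3) =
        5 * ((5 * t + 2) * (5 * t ^ 2 + 4 * t) + 3 * t + 1) + 1 by ring]
      omega
  · exact Or.inr (Or.inl (three (by omega)))
  · left
    obtain rfl := pe 5 Nat.prime_five (by omega)
    have e : 5 ^ n = 25 ^ (n / 2) * 5 ^ (n % 2) := by
      rw [show 25 = 5 ^ 2 by rfl, ← pow_mul, ← pow_add, Nat.div_add_mod]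
    have a := m24 (n / 2)
    have hk : k = 2 := by
      rcases Nat.mod_two_eq_zero_or_one n with b | b <;> simp only [b] at e <;> omega
    rw [h2, hk]; rfl
  · exact Or.inr (Or.inl (three (by omega)))

variable {F : Type} [Field F]

theorem ocSL {z s t h : F} (hz : z ^ 4 = -1) (hs : s * t = 1) (hh : 2 * h = 1) :
    OcG (-1 : SL(2, F)) (slMk z 0 0 (-z ^ 3) (by grind)) (slMk (z ^ 2) 0 0 (-z ^ 2) (by grind))
      (slMk 0 s (-t) 0 (by grind))
      (slMk (-(1 + z ^ 2) * h) (-s * (1 + z ^ 2) * h) (t * (1 - z ^ 2) * h) ((z ^ 2 - 1) * h)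
        (by grind)) := by
  refine ⟨?_, ?_, ?_, ?_, ?_, ?_, ?_, ?_, ?_⟩ <;> refine sl_ext ?_ ?_ ?_ ?_ <;>
    simp only [sl_mul_apply, sl_neg_apply, slMk00, slMk01, slMk10, slMk11, sl_one00, sl_one01,
      sl_one10, sl_one11] <;> grind

/-- the unipotent element -/
def un (a : F) : SL(2, F) := slMk 1 a 0 1 (by simp)

theorem un_pow (n : ℕ) : un (1 : F) ^ n = un (n : F) := by
  induction n with
  | zero => refine sl_ext ?_ ?_ ?_ ?_ <;> simp [un, slMk00, slMk01, slMk10, slMk11]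
  | succ n ih =>
    rw [pow_succ, ih]
    refine sl_ext ?_ ?_ ?_ ?_ <;> simp [un, sl_mul_apply, slMk00, slMk01, slMk10, slMk11, add_comm]

/-- the diagonal embedding -/
def dg : Fˣ →* SL(2, F) where
  toFun a := slMk a 0 0 (a⁻¹ : Fˣ) (by simp)
  map_one' := by refine sl_ext ?_ ?_ ?_ ?_ <;> simp [slMk00, slMk01, slMk10, slMk11]
  map_mul' a b := by
    refine sl_ext ?_ ?_ ?_ ?_ <;> simp [sl_mul_apply, slMk00, slMk01, slMk10, slMk11, mul_comm]

theorem dg_inj : Function.Injective (dg (F := F)) := fun _ _ h =>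
  Units.ext (congrArg (fun g : SL(2, F) => g 0 0) h)

/-- upper unitriangular matrices -/
def uni (F : Type) [Field F] : Subgroup SL(2, F) where
  carrier := {g | g 1 0 = 0 ∧ g 0 0 = 1 ∧ g 1 1 = 1}
  mul_mem' := fun ⟨a1, a2, a3⟩ ⟨b1, b2, b3⟩ => by simp [sl_mul_apply, a1, a2, a3, b1, b2, b3]
  one_mem' := by simp
  inv_mem' := fun ⟨a1, a2, a3⟩ => by
    simp only [Set.mem_ofPred_eq, sl_inv00, sl_inv10, sl_inv11, a1, a2, a3, neg_zero, and_self]

theorem un_ne : un (1 : F) ∉ center SL(2, F) := by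
  rw [GW.mem_center_sl]
  rintro (h | h) <;> have := congrArg (fun g : SL(2, F) => g 0 1) h <;>
    simp [un, slMk01, sl_neg_apply] at this

variable {R : Type*} [Ring R] [Algebra ℚ R]

theorem no_odd [Fintype F] (ρ : SL(2, F) →* R) (ok : Ok R) (hρ : Function.Injective ρ) {r : ℕ}
    (hr : r.Prime) (hd : r ∣ Fintype.card F - 1) : r = 2 := by
  classical
  by_contra h2
  have : Fact r.Prime := ⟨hr⟩
  obtain ⟨a, ha⟩ := exists_prime_orderOf_dvd_card (G := Fˣ) r (by rwa [Fintype.card_units])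
  have ho : orderOf (dg a) = r := by rw [orderOf_injective dg dg_inj, ha]
  refine fl ρ ok hρ (uni F) (dg a) (fun h => un_ne (F := F) ?_) (ho ▸ hr) (ho ▸ h2) ?_ ?_
  · have : un (1 : F) ∈ uni F := ⟨rfl, rfl, rfl⟩
    rw [h, mem_bot] at this
    rw [this]; exact one_mem _
  · rintro g ⟨a1, a2, a3⟩
    rw [← map_inv]
    refine ⟨?_, ?_, ?_⟩ <;>
      simp [dg, sl_mul_apply, slMk00, slMk01, slMk10, slMk11, a1, a2, a3]
  · rintro g ⟨a1, a2, a3⟩ e
    have e1 := congrArg (fun g : SL(2, F) => g 0 1) e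
    simp only [dg, MonoidHom.coe_mk, OneHom.coe_mk, sl_mul_apply, slMk00, slMk01, slMk11,
      zero_mul, mul_zero, add_zero, zero_add] at e1
    refine sl_ext a2 ?_ a1 a3
    by_contra h0
    rw [mul_comm] at e1
    have e2 : a = a⁻¹ := Units.ext (mul_left_cancel₀ h0 e1)
    have e3 : a ^ 2 = 1 := by rw [sq]; exact mul_eq_one_iff_eq_inv.2 e2
    exact h2 ((Nat.prime_dvd_prime_iff_eq hr Nat.prime_two).1 (ha ▸ orderOf_dvd_of_pow_eq_one e3))

variable {G : Type*} [Group G] [Finite G] {ε : G}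

theorem sl_case [Fintype F] (ρ : G →* R) (ok : Ok R) (hρ : Function.Injective ρ) (he : ρ ε = -1)
    (hy : Hy G ε) (hu : ∀ t : G, t * t = 1 → t = 1 ∨ t = ε) (hg : ∀ H : Subgroup G, H ≠ ⊤ → Good H)
    (ho : Odd (Fintype.card F)) (h3 : 3 < Fintype.card F) (φ : G ≃* SL(2, F)) :
    L59 (G ⧸ center G) := by
  classical
  obtain ⟨p, _, n, hp, hq⟩ := FiniteField.card' F
  have hk := Nat.eq_prime_pow_of_unique_prime_dvd (n := Fintype.card F - 1) (p := 2) (by omega)
    (fun hr hd => no_odd (ρ.comp φ.symm.toMonoidHom) ok (hρ.comp φ.symm.injective) hr hd)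
  have f2 : (2 : F) ≠ 0 := GW.ftwo_ne ho
  have l59 : Fintype.card F = 5 ∨ Fintype.card F = 9 → L59 (G ⧸ center G) := fun h =>
    ⟨F, _, _, h, ⟨QuotientGroup.congr _ _ φ (by
      ext a
      obtain ⟨a, rfl⟩ := φ.surjective a
      simp only [mem_map, MonoidHom.coe_coe, EmbeddingLike.apply_eq_iff_eq, exists_eq_right,
        mem_center_iff, φ.surjective.forall, ← map_mul])⟩⟩
  rcases numth hp hq (k := (Fintype.card F - 1).primeFactorsList.length) (by omega) h3 with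
    h | h | ⟨h8, hp', h5⟩
  · exact l59 (Or.inl h)
  · exact l59 (Or.inr h)
  exfalso
  obtain ⟨a, ha⟩ : ∃ a : Fˣ, orderOf a = 8 := by
    obtain ⟨b, hb⟩ := IsCyclic.exists_ofOrder_eq_natCard (α := Fˣ)
    rw [Nat.card_eq_fintype_card, Fintype.card_units] at hb
    exact ⟨b ^ (orderOf b / 8), orderOf_pow_orderOf_div (by omega) (hb ▸ h8)⟩
  have hz : (a : F) ^ 4 = -1 := by
    have h1 : ((a : F) ^ 4) ^ 2 = 1 := by
      rw [← pow_mul, ← Units.val_pow_eq_pow_val, show 4 * 2 = orderOf a from ha.symm,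
        pow_orderOf_eq_one, Units.val_one]
    refine (sq_eq_one_iff.1 h1).resolve_left fun h2 => ?_
    have : a ^ 4 = 1 := Units.ext (by simpa using h2)
    have := orderOf_dvd_of_pow_eq_one this
    rw [ha] at this
    omega
  have hh : 2 * (2 : F)⁻¹ = 1 := mul_inv_cancel₀ f2
  have o1 := (ocSL hz (mul_one 1) hh).map φ.symm.toMonoidHom
  have o2 := (ocSL hz (s := (a : F)) (t := -(a : F) ^ 3) (by linear_combination -hz) hh).map φ.symm.toMonoidHom
  have ee : φ.symm.toMonoidHom (-1) = ε := by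
    refine (hu _ (by rw [← map_mul]; simp)).resolve_left fun h => sl_neg_one_ne f2 ?_
    exact φ.symm.injective (h.trans (map_one _).symm)
  rw [ee] at o1 o2
  have ej : slMk 0 (a : F) (- -(a : F) ^ 3) 0 (by linear_combination -hz) =
      slMk (a : F) 0 0 (-(a : F) ^ 3) (by linear_combination -hz) * slMk 0 1 (-1) 0 (by simp) := by
    refine sl_ext ?_ ?_ ?_ ?_ <;> simp [sl_mul_apply, slMk00, slMk01, slMk10, slMk11]
  rw [ej, map_mul] at o2
  refine core ρ ok hρ he hy o1 o2 (gen_top hg ?_ hy.e1 o1 o2) (u := φ.symm (un 1)) ?_ hp hp' ?_ ?_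
  · rwa [Nat.card_congr φ.toEquiv, card_SL2]
  · intro h
    apply un_ne (F := F)
    rw [mem_center_iff] at h ⊢
    intro b
    simpa using congrArg φ (h (φ.symm b))
  · rw [← map_pow, un_pow, CharP.cast_eq_zero, ← Nat.cast_zero, ← un_pow, pow_zero, map_one]
  · intro m
    have m0 : ((m.val + 1 : ℕ) : F) ≠ 0 := by
      rw [Ne, CharP.cast_eq_zero_iff F p]
      refine fun h => hp' (h.trans ?_)
      fin_cases m <;> simp
    refine ⟨φ.symm (dg (Units.mk0 _ m0)⁻¹), ?_⟩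
    rw [← map_pow, ← map_mul, ← map_mul, un_pow]
    congr 1
    refine sl_ext ?_ ?_ ?_ ?_ <;>
      simp only [dg, un, MonoidHom.coe_mk, OneHom.coe_mk, sl_mul_apply, slMk00, slMk01, slMk10,
        slMk11, inv_inv, Units.val_inv_eq_inv_val, Units.val_mk0, Nat.cast_pow] <;> field_simp <;>
      simp

theorem a7_case (ρ : G →* R) (ok : Ok R) (hρ : Function.Injective ρ)
    (π : G →* alternatingGroup (Fin 7)) (hs : Function.Surjective π)
    (hk : ∀ z, π z = 1 → z * z = 1 ∧ ∀ g, g * z = z * g) : False := by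
  let a : alternatingGroup (Fin 7) := ⟨c[0, 1, 2, 3, 4, 5, 6], Equiv.Perm.mem_alternatingGroup.2 (by decide)⟩
  let b : alternatingGroup (Fin 7) := ⟨c[1, 2, 4] * c[3, 6, 5], Equiv.Perm.mem_alternatingGroup.2 (by decide)⟩
  have a7 : a ^ 7 = 1 := by decide +kernel
  have b3 : b ^ 3 = 1 := by decide
  have ba : b * a * b⁻¹ = a ^ 2 := by decide
  have a1 : a ≠ 1 := by decide
  have b1 : b ≠ 1 := by decide
  have lift : ∀ (n : ℕ) (c : alternatingGroup (Fin 7)), Odd n → c ^ n = 1 →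
      ∃ y, π y = c ∧ y ^ n = 1 := by
    rintro n c ⟨m, hm⟩ hc
    obtain ⟨y, rfl⟩ := hs c
    refine ⟨y ^ (n + 1), by rw [map_pow, pow_succ, hc, one_mul], ?_⟩
    have := (hk (y ^ n) (by rw [map_pow, hc])).1
    rw [← pow_mul, mul_comm, pow_mul, show n + 1 = 2 * (m + 1) by omega, pow_mul, sq, this, one_pow]
  have k7 : ∀ z, π z = 1 → z ^ 7 = 1 → z = 1 := fun z h1 h2 => by
    rwa [show z ^ 7 = (z * z) ^ 3 * z by rw [← sq, ← pow_mul, ← pow_succ], (hk z h1).1, one_pow, one_mul] at h2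
  obtain ⟨u, hu, u7⟩ := lift 7 a (by decide) a7
  obtain ⟨x, hx, x3⟩ := lift 3 b (by decide) b3
  have ox : orderOf x = 3 := orderOf_eq_prime x3 (by rintro rfl; exact b1 (hx.symm.trans (map_one π)))
  have xu : x * u * x⁻¹ = u ^ 2 := by
    have h1 : π (x * u * x⁻¹ * (u ^ 2)⁻¹) = 1 := by
      simp only [map_mul, map_inv, map_pow, hu, hx, ba, mul_inv_cancel]
    refine mul_inv_eq_one.1 (k7 _ h1 ?_)
    have h2 : Commute (x * u * x⁻¹ * (u ^ 2)⁻¹) (u ^ 2) := ((hk _ h1).2 _).symm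
    have h3 := h2.mul_pow 7
    rwa [inv_mul_cancel_right, conj_pow, u7, ← pow_mul, mul_comm 2 7, pow_mul, u7, one_pow,
      mul_one, mul_one, mul_inv_cancel, eq_comm] at h3
  refine fl ρ ok hρ (zpowers u) x ?_ (ox ▸ Nat.prime_three) (by omega) ?_ ?_
  · rw [Ne, zpowers_eq_bot]; rintro rfl; exact a1 (hu.symm.trans (map_one π))
  · rintro _ ⟨k, rfl⟩
    show x * u ^ k * x⁻¹ ∈ _
    rw [← conj_zpow, xu]
    exact zpow_mem (pow_mem (mem_zpowers u) 2) k
  · rintro _ ⟨k, rfl⟩ e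
    have h1 : x * u ^ k * x⁻¹ = u ^ k := mul_inv_eq_iff_eq_mul.2 e
    rw [← conj_zpow, xu, sq, (Commute.refl u).mul_zpow] at h1
    exact mul_eq_left.1 h1

end Cfsg.Agent.DR.E

namespace Cfsg.Agent.DR

universe u v

theorem endThm : EndThm.{u, v} := by
  intro R _ _ G _ _ ρ ε ok hρ he hy hu hg
  have := hy.perf
  have oe : orderOf ε = 2 := orderOf_eq_prime (by rw [sq, hy.e2]) hy.e1
  have h0 : oddCore G = ⊥ := by
    have hc := H4.coprime_card_pPrimeCore 2 G
    rcases E.norm_cases hy (oddCore G) with h | h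
    · rw [← inf_eq_right.2 h]; exact H4.inf_eq_bot_of_pGroup_coprime hy.z2 hc
    · have := H4.coprime_orderOf_of_mem hc (x := ε) (by rw [show pPrimeCore 2 G = ⊤ from h]; trivial)
      rw [oe] at this
      simp at this
  let φ : G ≃* G ⧸ oddCore G :=
    ((QuotientGroup.quotientMulEquivOfEq h0).trans QuotientGroup.quotientBot).symm
  have h1 : PRankLE 2 1 G := fun A _ hA => by
    have : A ≤ zpowers ε := fun a ha => by
      rcases hu a (by rw [← sq, hA a ha]) with rfl | rfl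
      exacts [one_mem _, mem_zpowers _]
    have := card_le_of_le this
    rwa [Nat.card_zpowers, oe] at this
  rcases GW.perfect_rank_one h1 (even_iff_two_dvd.2 (oe ▸ orderOf_dvd_natCard ε)) with
    ⟨F, _, _, ho, h3, ⟨e⟩⟩ | ⟨h2, ⟨e⟩, -⟩
  · exact E.sl_case ρ ok hρ he hy hu hg ho h3 (φ.trans e)
  · refine (E.a7_case ρ ok hρ (e.toMonoidHom.comp ((QuotientGroup.mk' _).comp φ.toMonoidHom))
      (e.surjective.comp ((QuotientGroup.mk'_surjective _).comp φ.surjective)) fun z hz => ?_).elim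
    have h4 : φ z ∈ center _ :=
      (QuotientGroup.eq_one_iff _).1 (e.injective (hz.trans (map_one e).symm))
    refine ⟨φ.injective ?_, fun g => φ.injective ?_⟩
    · have := congrArg Subtype.val (pow_card_eq_one' (x := (⟨φ z, h4⟩ : center _)))
      rw [h2] at this
      simpa [sq] using this
    · rw [map_mul, map_mul]; exact mem_center_iff.1 h4 _

end Cfsg.Agent.DR
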