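import Cfsg.Agent.DR.Stmt
import Cfsg.Agent.R4.D
import Cfsg.Agent.GW.Cv3
import Cfsg.Agent.L.ZStar

/-! Finite subgroups of `GL₂(D)`: the group-theoretic reduction to a central extension. -/

set_option autoImplicit false
set_option linter.unusedVariables false
set_option linter.unusedSectionVars false

namespace Cfsg.Agent.DR

open Cfsg Subgroup FT H4 H5 GW
open scoped commutatorElement

universe u v

variable {G : Type u} {X : Type*} [Group G] [Finite G] [Group X] {f : G →* X}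

theorem L59.equiv {Y : Type*} [Group Y] (h : L59 Y) (e : X ≃* Y) : L59 X := by
  obtain ⟨F, _, _, h1, ⟨e'⟩⟩ := h
  exact ⟨F, _, _, h1, ⟨e.trans e'⟩⟩

theorem Good.of (h : Good G) (hf : Function.Surjective f) (hs : IsSimpleGroup X)
    (nc : ¬ IsMulCommutative X) : L59 X := by
  have e := QuotientGroup.quotientKerEquivOfSurjective f hf
  refine (h f.ker e.isSimpleGroup fun c => nc ⟨⟨fun a b => e.symm.injective ?_⟩⟩).equiv e.symm
  rw [map_mul, map_mul, c.1.1]

/-- `G` is a minimal supplement -/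
structure Mn (f : G →* X) : Prop where
  surj : Function.Surjective f
  simp : IsSimpleGroup X
  nc : ¬ IsMulCommutative X
  min : ∀ H : Subgroup G, H.map f = ⊤ → H = ⊤

/-- the local consequences of the ring structure -/
structure Lc (G : Type u) [Group G] : Prop where
  cyc : ∀ p : ℕ, p.Prime → ∀ A : Subgroup G, A.Normal → IsMulCommutative A →
    (∀ a ∈ A, a ^ p = 1) → IsCyclic A
  odd : ∀ p : ℕ, p.Prime → p ≠ 2 → ∀ P : Subgroup G, IsPGroup p P → IsMulCommutative P
  a1 : ∀ t u : G, t * t = 1 → u * u = 1 → t * u = u * t → t ∉ center G →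
    u ∈ center G ∨ u * t ∈ center G
  zi : ∀ z ∈ center G, ∀ w ∈ center G, z * z = 1 → w * w = 1 → z ≠ 1 → w ≠ 1 → z = w
  a2 : ∀ t s x : G, t * t = 1 → s * s = 1 → Odd (orderOf (t * s)) → t * s ≠ 1 → x * x ≠ t

theorem central_eq_one (hH : _root_.commutator G = ⊤) {p : ℕ}
    [Fact p.Prime] (P : Sylow p G) (ab : IsMulCommutative (P : Subgroup G)) {z : G}
    (hz : z ∈ (P : Subgroup G)) (hc : ∀ g, g * z = z * g) : z = 1 := by
  let _ : CommGroup (P : Subgroup G) :=
    { (inferInstance : Group (P : Subgroup G)) with mul_comm := ab.1.1 }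
  have a := MonoidHom.transfer_eq_pow (MonoidHom.id (P : Subgroup G)) z fun k g _ => by
    rw [mul_assoc, ← (Commute.pow_right (hc g) k).eq, inv_mul_cancel_left]
  have b : MonoidHom.transfer (MonoidHom.id (P : Subgroup G)) z = 1 :=
    Abelianization.commutator_subset_ker _ (hH ▸ mem_top z)
  have c : z ^ (P : Subgroup G).index = 1 := congrArg Subtype.val (a.symm.trans b)
  obtain ⟨k, hk⟩ := P.2 ⟨z, hz⟩
  have d := pow_gcd_eq_one.mpr ⟨c, (congrArg Subtype.val hk : z ^ p ^ k = 1)⟩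
  rwa [Nat.Coprime.pow_right k ((Nat.Prime.coprime_iff_not_dvd Fact.out).mpr
    P.not_dvd_index).symm, pow_one] at d

section anti

variable {ε a b c : G}

/-- anticommuting elements -/
def An (ε a b : G) : Prop := a * b = ε * (b * a)

theorem An.inv (hε : ∀ g, ε * g = g * ε) (e2 : ε * ε = 1) (h : An ε a b) : An ε a b⁻¹ := by
  have : b * a = ε * (a * b) := by rw [h, ← mul_assoc, e2, one_mul]
  calc a * b⁻¹ = b⁻¹ * (b * a) * b⁻¹ := by group
    _ = ε * (b⁻¹ * a) := by rw [this, ← mul_assoc, ← hε]; group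

theorem An.mul (hε : ∀ g, ε * g = g * ε) (e2 : ε * ε = 1) (h : An ε a b) (h' : An ε a c) :
    Commute a (b * c) := by
  change a * (b * c) = b * c * a
  rw [← mul_assoc, h, mul_assoc, mul_assoc, h', ← mul_assoc b, ← hε, mul_assoc ε, ← mul_assoc, e2,
    one_mul, mul_assoc]

theorem An.mr (h : An ε a b) (h' : Commute a c) : An ε a (b * c) := by
  change a * (b * c) = ε * (b * c * a)
  rw [← mul_assoc, h, mul_assoc, mul_assoc, h'.eq, mul_assoc]

theorem An.ml (hε : ∀ g, ε * g = g * ε) (h : An ε a b) (h' : Commute a c) : An ε a (c * b) := by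
  change a * (c * b) = ε * (c * b * a)
  rw [← mul_assoc, h'.eq, mul_assoc, h, ← mul_assoc, ← hε, mul_assoc, mul_assoc]

theorem An.nc (e1 : ε ≠ 1) (h : An ε a b) : b ∉ center G := fun hb => e1 (by
  have := h.symm.trans (mem_center_iff.1 hb a)
  simpa using this)

theorem An.sq (hε : ∀ g, ε * g = g * ε) (e2 : ε * ε = 1) (h : An ε a b) (e : a * a = b * b) :
    a * b⁻¹ * (a * b⁻¹) = ε := by
  nth_rw 1 [h.inv hε e2]
  rw [mul_assoc, mul_assoc, ← mul_assoc a, e]
  group

theorem Lc.six (l : Lc G) (hε : ∀ g, ε * g = g * ε) (e2 : ε * ε = 1) (e1 : ε ≠ 1) (x : Fin 6 → G)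
    (h : ∀ i j, i ≠ j → An ε (x i) (x j)) (sq : ∀ i j, x i * x i = x j * x j) : False := by
  have k : ∀ i j m, i ≠ j → i ≠ m → Commute (x i) (x j * (x m)⁻¹) := fun i j m h1 h2 =>
    (h i j h1).mul hε e2 ((h i m h2).inv hε e2)
  have k' : ∀ i j, i ≠ j → An ε (x i) (x i * (x j)⁻¹) := fun i j h1 =>
    ((h i j h1).inv hε e2).ml hε (Commute.refl _)
  have c : ∀ i j m n, i ≠ m → i ≠ n → j ≠ m → j ≠ n →
      Commute (x i * (x j)⁻¹) (x m * (x n)⁻¹) := fun i j m n h1 h2 h3 h4 =>
    (k i m n h1 h2).mul_left (k j m n h3 h4).inv_left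
  have s : ∀ i j, i ≠ j → x i * (x j)⁻¹ * (x i * (x j)⁻¹) = ε := fun i j h1 =>
    (h i j h1).sq hε e2 (sq i j)
  have c1 := c 0 1 2 3 (by decide) (by decide) (by decide) (by decide)
  have c2 := c 0 1 4 5 (by decide) (by decide) (by decide) (by decide)
  have c3 := c 2 3 4 5 (by decide) (by decide) (by decide) (by decide)
  have a5 := (k' 4 5 (by decide)).ml hε (k 4 0 1 (by decide) (by decide))
  rcases l.a1 (x 0 * (x 1)⁻¹ * (x 2 * (x 3)⁻¹)) (x 0 * (x 1)⁻¹ * (x 4 * (x 5)⁻¹))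
    (by rw [c1.symm.mul_mul_mul_comm, s 0 1 (by decide), s 2 3 (by decide), e2])
    (by rw [c2.symm.mul_mul_mul_comm, s 0 1 (by decide), s 4 5 (by decide), e2])
    (((Commute.refl _).mul_right c2).mul_left (c1.symm.mul_right c3)).eq
    (((k' 0 1 (by decide)).mr (k 0 2 3 (by decide) (by decide))).nc e1) with e | e
  · exact a5.nc e1 e
  · exact (a5.mr ((k 4 0 1 (by decide) (by decide)).mul_right
      (k 4 2 3 (by decide) (by decide)))).nc e1 e

end anti

namespace Mn

variable (m : Mn f)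
include m

theorem le_ker {K : Subgroup G} (hK : K.Normal) (h : K ≠ ⊤) : K ≤ f.ker := by
  have := m.simp
  exact (map_eq_bot_iff K).1 ((hK.map f m.surj).eq_bot_or_eq_top.resolve_right
    fun e => h (m.min K e))

theorem perf : _root_.commutator G = ⊤ := m.min _ (by
  have := m.simp
  rw [map_commutator_eq, MonoidHom.range_eq_top.2 m.surj]
  exact (commutator_normal ⊤ ⊤).eq_bot_or_eq_top.resolve_left fun e => m.nc ⟨⟨fun a b =>
    commutatorElement_eq_one_iff_mul_comm.1 (mem_bot.1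
      (e ▸ commutator_mem_commutator (mem_top a) (mem_top b)))⟩⟩)

theorem ns : ¬ Group.IsSolvable G := fun h => by
  have := m.simp
  exact m.nc ⟨⟨IsSimpleGroup.comm_iff_isSolvable.2 (Group.isSolvable_of_surjective m.surj)⟩⟩

theorem le_of_solv {K : Subgroup G} (hK : K.Normal) (h : Group.IsSolvable K) : K ≤ f.ker :=
  m.le_ker hK fun e => m.ns (by
    subst e
    exact Group.isSolvable_of_surjective (f := (⊤ : Subgroup G).subtype)
      fun x => ⟨⟨x, trivial⟩, rfl⟩)

theorem ZN : center G ≤ f.ker := m.le_of_solv inferInstance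
  (Group.isSolvable_of_comm fun a b => Subtype.ext (mem_center_iff.1 b.2 a))

theorem five {M : Subgroup G} (h1 : f.ker ≤ M) (h2 : M ≠ ⊤) (h3 : M.index ≤ 5) : L59 X := by
  have := m.simp
  have := Fintype.ofFinite (G ⧸ M)
  obtain ⟨ι⟩ : Nonempty (G ⧸ M ↪ Fin 5) := Function.Embedding.nonempty_of_card_le (by
    rwa [Fintype.card_fin, ← Nat.card_eq_fintype_card])
  let ψ := (Equiv.Perm.viaEmbeddingHom ι).comp (MulAction.toPermHom G (G ⧸ M))
  have e : ψ.ker = f.ker := by
    rw [← MonoidHom.comap_ker, (MonoidHom.ker_eq_bot_iff _).2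
      (Equiv.Perm.viaEmbeddingHom_injective ι), MonoidHom.comap_bot, ← normalCore_eq_ker]
    exact le_antisymm (m.le_ker inferInstance fun e => h2 (top_le_iff.1 (e ▸ normalCore_le M)))
      (normal_le_normalCore.2 h1)
  have i : X ≃* ψ.range := (QuotientGroup.quotientKerEquivOfSurjective f m.surj).symm.trans
    ((QuotientGroup.quotientMulEquivOfEq e.symm).trans (QuotientGroup.quotientKerEquivRange ψ))
  have e1 : ψ.range = alternatingGroup (Fin 5) := le_antisymm (by
    rintro _ ⟨g, rfl⟩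
    exact Abelianization.commutator_subset_ker (Equiv.Perm.sign.comp ψ) (m.perf ▸ mem_top g))
    (R4.S5 fun h => m.nc ⟨⟨IsSimpleGroup.comm_iff_isSolvable.2
      (Group.isSolvable_of_surjective (f := i.symm.toMonoidHom) i.symm.surjective)⟩⟩)
  have : Finite X := Finite.of_surjective f m.surj
  exact ⟨ZMod 5, inferInstance, inferInstance, Or.inl (ZMod.card 5),
    psl60 (by rw [Nat.card_congr i.toEquiv, e1, card_A5])⟩

variable (l : Lc G)
include l

theorem ab_cen {p : ℕ} [hp : Fact p.Prime] {A : Subgroup G} (hA : A.Normal) (hP : IsPGroup p A)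
    (c : IsMulCommutative A) : A ≤ center G := by
  have cm := fun x y => H5.comm_of_isMulCommutative c (a := x) (b := y)
  let O : Subgroup G :=
    { carrier := {a | a ∈ A ∧ a ^ p = 1}
      one_mem' := ⟨one_mem _, one_pow _⟩
      mul_mem' := fun {a b} ha hb => ⟨mul_mem ha.1 hb.1, by
        rw [Commute.mul_pow (cm _ _ ha.1 hb.1), ha.2, hb.2, mul_one]⟩
      inv_mem' := fun {a} ha => ⟨inv_mem ha.1, by rw [inv_pow, ha.2, inv_one]⟩ }
  have oc := l.cyc p hp.out O ⟨fun a ha g => ⟨hA.conj_mem a ha.1 g, by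
    rw [conj_pow, ha.2]; simp⟩⟩ (H5.isMulCommutative_of_le c fun a ha => ha.1) fun a ha => ha.2
  have cy : IsCyclic A := (abelian_pgroup_rank1_cyclic c hP).2 fun E _ hE => by
    obtain ⟨a, ha, e⟩ := H9.exists_zpowers_eq oc
    rw [pow_one, ← H6.card_map_subtype]
    refine (card_le_of_le (?_ : _ ≤ O)).trans ?_
    · rintro _ ⟨y, hy, rfl⟩
      exact ⟨y.2, congrArg Subtype.val (hE y hy)⟩
    · rw [← e, Nat.card_zpowers]
      exact Nat.le_of_dvd hp.out.pos (orderOf_dvd_of_pow_eq_one ha.2)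
  have := der1_cent_cyclic cy (A := ⊤) (normalizer_eq_top A).ge
  rw [← _root_.commutator_def, m.perf] at this
  exact fun a ha => mem_center_iff.2 fun g => GW.cen.1 (this (mem_top g)) a ha

theorem two : IsPGroup 2 f.ker := by
  refine IsPGroup.iff_card.2 ⟨_, Nat.eq_prime_pow_of_unique_prime_dvd Nat.card_pos.ne'
    fun {p} hp hd => by_contra fun p2 => ?_⟩
  have := Fact.mk hp
  obtain ⟨P, hP⟩ := exists_isSylowOf p f.ker
  have n : P.Normal := normalizer_eq_top_iff.1 (m.min _ (by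
    have e := hP.sup_normalizer le_top (normalizer_eq_top f.ker).ge
    rw [← map_top_of_surjective f m.surj, ← e, Subgroup.map_sup, (map_eq_bot_iff f.ker).2 le_rfl,
      bot_sup_eq, top_inf_eq]))
  obtain ⟨S, hS⟩ := hP.isPGroup.exists_le_sylow
  exact hP.ne_bot hd (eq_bot_iff.2 fun z hz => central_eq_one m.perf S (l.odd p hp p2 _ S.2) (hS hz)
    (mem_center_iff.1 (m.ab_cen l n hP.isPGroup (l.odd p hp p2 _ hP.isPGroup) hz)))

theorem ex_eps : ∃ ε ∈ center G, ε * ε = 1 ∧ ε ≠ 1 := by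
  by_contra! hn
  obtain ⟨t, -, ot⟩ := ex_inv (K := (⊤ : Subgroup G)) fun h => m.ns (by
    have := odd_solv h
    exact Group.isSolvable_of_surjective (f := (⊤ : Subgroup G).subtype)
      fun x => ⟨⟨x, trivial⟩, rfl⟩)
  have tc : t ∉ center G := fun h => ine ot (hn t h (ii ot))
  have o : pPrimeCore 2 G = ⊥ := by
    have c := coprime_card_pPrimeCore 2 G
    have le := m.le_of_solv (pPrimeCore_normal 2 G) (odd_solv (odd_iff_cop.2 c))
    rw [← inf_eq_bot_of_pGroup_coprime (m.two l) c, inf_eq_right.2 le]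
  refine tc (mem_center_iff.2 fun g => ?_)
  have := L.zstar' ot (fun g c => ?_) g
  · rwa [o, mem_bot, mul_inv_eq_one, mul_inv_eq_iff_eq_mul] at this
  have o2 := iconj ot g
  rcases l.a1 t _ (ii ot) (ii o2) c tc with e | e
  · exact absurd (hn _ e (ii o2)) (ine o2)
  · have := hn _ e (by rw [c.mul_mul_mul_comm, ii o2, ii ot, one_mul])
    rw [eq_inv_of_mul_eq_one_left this, iinv ot]

theorem cen_or : f.ker ≤ center G ∨ L59 X := by
  refine or_iff_not_imp_left.2 fun h => ?_
  obtain ⟨ε, eZ, e2, e1⟩ := m.ex_eps l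
  have hε : ∀ g, ε * g = g * ε := fun g => (mem_center_iff.1 eZ g).symm
  let Q : G → Prop := fun x => x ∈ f.ker ∧ x ∉ center G ∧ (∀ g ∈ f.ker, ⁅x, g⁆ ∈ center G) ∧
    x * x ∈ center G
  have nZ : (center G).Normal := inferInstance
  have nN : f.ker.Normal := inferInstance
  have cj : ∀ {x}, Q x → ∀ g, Q (g * x * g⁻¹) := fun {x} h g => ⟨nN.conj_mem _ h.1 g,
    fun e => h.2.1 (mem_of_eq (nZ.conj_mem _ e g⁻¹) (by group)), fun y hy => mem_of_eq
      (nZ.conj_mem _ (h.2.2.1 _ (nN.conj_mem _ hy g⁻¹)) g)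
        (by simp [commutatorElement_def, mul_assoc]),
    by rw [conj_mul]; exact nZ.conj_mem _ h.2.2.2 g⟩
  have sq : ∀ {x}, Q x → ∀ g, g * x * g⁻¹ * (g * x * g⁻¹) = x * x := fun {x} h g => by
    rw [conj_mul, mem_center_iff.1 h.2.2.2 g, mul_inv_cancel_right]
  obtain ⟨x, q, hx⟩ : ∃ x, Q x ∧ ∀ g k, Commute (g * x * g⁻¹) (k * x * k⁻¹) →
      g * x * g⁻¹ * (k * x * k⁻¹)⁻¹ ∈ center G := by
    by_cases hi : ∃ x, Q x ∧ x * x = 1
    · obtain ⟨x, q, xx⟩ := hi
      have xx' : ∀ g, g * x * g⁻¹ * (g * x * g⁻¹) = 1 := fun g => (sq q g).trans xx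
      refine ⟨x, q, fun g k c => ?_⟩
      rw [inv_eq_of_mul_eq_one_right (xx' k)]
      exact (l.a1 _ _ (xx' k) (xx' g) c.symm (cj q k).2.1).resolve_left (cj q g).2.1
    obtain ⟨x, h1, h2, h3, h4⟩ := H7.exists_central_mod (m.two l) le_rfl le_normalizer h
    have q : Q x := ⟨h1, h2, h3, pow_two x ▸ h4⟩
    refine ⟨x, q, fun g k c => by_contra fun hn =>
      hi ⟨g * x * g⁻¹ * (k * x * k⁻¹)⁻¹, ?_, ?_⟩⟩
    · have qg := cj q g
      have qk := cj q k
      generalize g * x * g⁻¹ = a at qg hn c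
      generalize k * x * k⁻¹ = b at qk hn c
      refine ⟨mul_mem qg.1 (inv_mem qk.1), hn, fun y hy => ?_, ?_⟩
      · rw [commutatorElement_mul_left_eq_conj_mul, commutatorElement_inv_left]
        exact mul_mem (nZ.conj_mem _ (nZ.conj_mem' _ (by
          rw [← commutatorElement_inv]; exact inv_mem (qk.2.2.1 y hy)) b) a) (qg.2.2.1 y hy)
      · rw [c.inv_right.symm.mul_mul_mul_comm, ← mul_inv_rev]
        exact mul_mem qg.2.2.2 (inv_mem qk.2.2.2)
    · rw [c.inv_right.symm.mul_mul_mul_comm, ← mul_inv_rev, sq q, sq q, mul_inv_cancel]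
  let M := (Cen1 (x : G ⧸ center G)).comap (QuotientGroup.mk' (center G))
  have mM : ∀ g, g ∈ M ↔ x * (g * x * g⁻¹)⁻¹ ∈ center G := fun g => by
    rw [mem_comap, c1', eq_comm, ← mul_inv_eq_one, ← QuotientGroup.eq_one_iff]
    rfl
  refine m.five (M := M) (fun g hg => (mM g).2 (mem_of_eq (q.2.2.1 g hg)
    (by simp [commutatorElement_def, mul_assoc]))) (fun e => q.2.1 ?_) (by_contra fun h5 => ?_)
  · let B := center G ⊔ zpowers x
    have two : IsPGroup 2 B := (m.two l).to_le (sup_le m.ZN (zpowers_le.2 q.1))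
    refine m.ab_cen l (A := B) (normalizer_eq_top_iff.1 (eq_top_iff.2 fun g _ =>
      mem_normalizer_of_conjS_le ?_)) two (comm_iff_le_cen.2 ?_)
      (mem_sup_right (mem_zpowers x))
    · rw [conjS_sup, W.conj_zp]
      refine sup_le ?_ (zpowers_le.2 (mem_of_eq (mul_mem (inv_mem (mem_sup_left
        ((mM g).1 (e ▸ mem_top g)))) (mem_sup_right (mem_zpowers x))) (by group)))
      rintro _ ⟨z, hz, rfl⟩
      exact mem_sup_left (nZ.conj_mem z hz g)
    · exact sup_le (center_le_centralizer _) (le_cen_symm (sup_le (center_le_centralizer _)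
        (le_cen_symm (zp_le_cen.2 (zpowers_le.2 (c1.2 rfl))))))
  have := Fintype.ofFinite (G ⧸ M)
  obtain ⟨ι⟩ : Nonempty (Fin 6 ↪ G ⧸ M) := Function.Embedding.nonempty_of_card_le (by
    rw [Fintype.card_fin, ← Nat.card_eq_fintype_card]; exact not_le.1 h5)
  refine l.six hε e2 e1 (fun i => (ι i).out * x * (ι i).out⁻¹) (fun i j ne => ?_)
    fun i j => (sq q _).trans (sq q _).symm
  have qi := cj q (ι i).out
  have qj := cj q (ι j).out
  have hn := hx (ι i).out (ι j).out
  have h1 : (ι i).out * x * (ι i).out⁻¹ * ((ι j).out * x * (ι j).out⁻¹)⁻¹ ∉ center G := fun e =>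
    ne (ι.injective (by
      rw [← (ι i).out_eq', ← (ι j).out_eq', QuotientGroup.eq, mM]
      exact mem_of_eq (nZ.conj_mem' _ e (ι i).out) (by group)))
  generalize (ι i).out * x * (ι i).out⁻¹ = a at qi hn h1
  generalize (ι j).out * x * (ι j).out⁻¹ = b at qj hn h1
  have h2 := qi.2.2.1 b qj.1
  have h3 : ⁅a, b⁆ * ⁅a, b⁆ = 1 := by
    have := commutatorElement_mul_left_eq_conj_mul a a b
    rw [mem_center_iff.1 h2 a, mul_inv_cancel_right, commutatorElement_eq_one_iff_mul_comm.2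
      (mem_center_iff.1 qi.2.2.2 b).symm] at this
    exact this.symm
  rw [An, ← l.zi _ h2 _ eZ h3 e2 (fun e => h1 (hn (commutatorElement_eq_one_iff_commute.1 e))) e1]
  simp [commutatorElement_def, mul_assoc]

theorem hy (h : f.ker ≤ center G) : ∃ ε, Hy G ε := by
  obtain ⟨ε, eZ, e2, e1⟩ := m.ex_eps l
  have e := le_antisymm h m.ZN
  have zi : ∀ z ∈ center G, z * z = 1 → z = 1 ∨ z = ε := fun z hz zz =>
    or_iff_not_imp_left.2 fun z1 => l.zi z hz ε eZ zz e2 z1 e1
  have := m.simp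
  refine ⟨ε, ⟨m.perf⟩, ((QuotientGroup.quotientMulEquivOfEq e.symm).trans
    (QuotientGroup.quotientKerEquivOfSurjective f m.surj)).isSimpleGroup, e ▸ m.two l, e1, e2,
    fun g => (mem_center_iff.1 eZ g).symm, zi, fun t u tt uu c t1 te => ?_, fun x xx => ?_⟩
  · rcases l.a1 t u tt uu c (fun h => (zi t h tt).elim t1 te) with h | h
    · rcases zi u h uu with h | h <;> simp [h]
    · rcases zi _ h (by rw [Commute.mul_mul_mul_comm c, uu, tt, one_mul]) with h | h
      · simp [eq_inv_of_mul_eq_one_left h, inv_eq_of_mul_eq_one_right tt]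
      · simp [← h, mul_assoc, tt]
  · refine zi _ (by_contra fun hn => ?_) xx
    obtain ⟨u, p, o, hu⟩ := H9.exists_inverted_of_not_mem_pCore xx fun e1 => hn (h (m.le_of_solv
      inferInstance (isSolvable_of_isPGroup (isPGroup_pCore 2 G)) e1))
    have e1 : x * x * (x * x * u) = u := by rw [← mul_assoc, xx, one_mul]
    refine l.a2 (x * x) (x * x * u) x xx ?_ (e1.symm ▸ o)
      (e1.symm ▸ fun e => p.ne_one (orderOf_eq_one_iff.2 e)) rfl
    rw [inv_eq_of_mul_eq_one_right xx] at hu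
    rw [← mul_assoc, hu, inv_mul_cancel]

end Mn

end Cfsg.Agent.DR
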