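import Cfsg.Agent.DR.Q1

/-! Finite subgroups of `GL₂(D)`: the induction. -/

set_option autoImplicit false
set_option linter.unusedVariables false
set_option linter.unusedSectionVars false

namespace Cfsg.Agent.DR

open Cfsg Subgroup FT H4 H5 GW

universe u v

/-- the ring lemmas used in the induction -/
structure RL : Prop where
  corner : ∀ (R : Type v) [Ring R] [Algebra ℚ R] (G : Type u) [Group G] [Finite G] (ρ : G →* R)
    (e : R), Ok R → e * e = e → e ≠ 1 → e ≠ 0 → (∀ g, e * ρ g = ρ g * e) →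
    ∃ (R2 : Type v) (_ : Ring R2) (_ : Algebra ℚ R2) (σ : G →* R2), Ok R2 ∧
      (∀ f : R2, f * f = f → f = 0 ∨ f = 1) ∧ ∀ g, σ g = 1 ↔ e * ρ g = e
  a1 : ∀ (R : Type v) [Ring R] [Algebra ℚ R] (t u : R), Ok R → t * t = 1 → u * u = 1 →
    t * u = u * t → t ≠ 1 → t ≠ -1 → u ≠ 1 → u ≠ -1 → u = t ∨ u = -t
  r4 : ∀ (R : Type v) [Ring R] [Algebra ℚ R] (G : Type u) [Group G] [Finite G] (ρ : G →* R),
    Ok R → Function.Injective ρ → ∀ p : ℕ, p.Prime → ∀ A : Subgroup G, A.Normal →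
    IsMulCommutative A → (∀ a ∈ A, a ^ p = 1) → ¬ IsCyclic A →
    ∃ e : R, e * e = e ∧ e ≠ 0 ∧ e ≠ 1 ∧ ∀ g, ρ g * e = e * ρ g ∨ ρ g * e = (1 - e) * ρ g
  r5 : ∀ (R : Type v) [Ring R] [Algebra ℚ R] (G : Type u) [Group G] [Finite G] (ρ : G →* R),
    Ok R → Function.Injective ρ → ∀ p : ℕ, p.Prime → p ≠ 2 → ∀ P : Subgroup G, IsPGroup p P →
    IsMulCommutative P
  a2 : ∀ (R : Type v) [Ring R] [Algebra ℚ R] (G : Type u) [Group G] [Finite G] (ρ : G →* R),
    Ok R → Function.Injective ρ → ∀ t s x : G, t * t = 1 → s * s = 1 → Odd (orderOf (t * s)) →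
    t * s ≠ 1 → x * x ≠ t

variable {R : Type v} [Ring R] [Algebra ℚ R] {G : Type u} {X : Type*} [Group G] [Finite G]
  [Group X] {f : G →* X} {ρ : G →* R}

theorem cen_of_pm (hi : Function.Injective ρ) {t : G} (h : ρ t = 1 ∨ ρ t = -1) : t ∈ center G :=
  mem_center_iff.2 fun g => hi (by rcases h with h | h <;> simp [h])

theorem RL.a1' (r : RL.{u, v}) (ok : Ok R) (hi : Function.Injective ρ) {t u : G} (tt : t * t = 1)
    (uu : u * u = 1) (c : t * u = u * t) (tc : t ∉ center G) :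
    u ∈ center G ∨ u * t ∈ center G := by
  refine or_iff_not_imp_left.2 fun uc => cen_of_pm hi ?_
  have e : ρ t * ρ t = 1 := by rw [← map_mul, tt, map_one]
  rcases r.a1 R (ρ t) (ρ u) ok e (by rw [← map_mul, uu, map_one]) (by rw [← map_mul, c, map_mul])
    (fun h => tc (cen_of_pm hi (Or.inl h))) (fun h => tc (cen_of_pm hi (Or.inr h)))
    (fun h => uc (cen_of_pm hi (Or.inl h))) (fun h => uc (cen_of_pm hi (Or.inr h))) with h | h <;>
    simp [h, e]

theorem neg_of_cen (hi : Function.Injective ρ)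
    (nc : ∀ e : R, e * e = e → (∀ g, e * ρ g = ρ g * e) → e = 0 ∨ e = 1) {z : G}
    (hz : z ∈ center G) (zz : z * z = 1) (z1 : z ≠ 1) : ρ z = -1 := by
  have e : ρ z * ρ z = 1 := by rw [← map_mul, zz, map_one]
  have k : ∀ a : R, (2 : ℚ) • (1 / 2 : ℚ) • a = a := fun a => by simp [smul_smul]
  rcases nc ((1 / 2 : ℚ) • (1 - ρ z)) (by
    rw [smul_mul_smul_comm, show (1 - ρ z) * (1 - ρ z) = (2 : ℚ) • (1 - ρ z) by
      rw [two_smul]; noncomm_ring [e], smul_smul]
    norm_num) (fun g => by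
      rw [smul_mul_assoc, mul_smul_comm, sub_mul, mul_sub, ← map_mul, ← map_mul,
        mem_center_iff.1 hz g, one_mul, mul_one]) with h | h
  · have := k (1 - ρ z)
    rw [h, smul_zero, eq_comm, sub_eq_zero, ← map_one ρ] at this
    exact absurd (hi this).symm z1
  · have := k (1 - ρ z)
    rw [h, two_smul] at this
    rw [show ρ z = 1 - (1 - ρ z) by abel, ← this]; abel

theorem Mn.irr (m : Mn f) (r : RL.{u, v}) (tb : TBThm.{u}) (en : EndThm.{u, v}) (ok : Ok R)
    (hi : Function.Injective ρ) (ih : ∀ H : Subgroup G, H ≠ ⊤ → Good H)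
    (nc : ∀ e : R, e * e = e → (∀ g, e * ρ g = ρ g * e) → e = 0 ∨ e = 1) : L59 X := by
  have l : Lc G := ⟨fun p hp A hA c ex => by_contra fun cy => ?_, r.r5 R G ρ ok hi,
    fun t u => r.a1' ok hi, fun z hz w hw zz ww z1 w1 => hi ((neg_of_cen hi nc hz zz z1).trans
      (neg_of_cen hi nc hw ww w1).symm), r.a2 R G ρ ok hi⟩
  · refine (m.cen_or l).elim (fun h => ?_) id
    obtain ⟨ε, hy⟩ := m.hy l h
    exact (en R G ρ ε ok hi (neg_of_cen hi nc (mem_center_iff.2 fun g => (hy.ec g).symm) hy.e2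
      hy.e1) hy (tb G ε hy) ih).equiv ((QuotientGroup.quotientKerEquivOfSurjective f
        m.surj).symm.trans (QuotientGroup.quotientMulEquivOfEq (le_antisymm h m.ZN)))
  obtain ⟨e, ee, e0, e1, he⟩ := r.r4 R G ρ ok hi p hp A hA c ex cy
  let K : Subgroup G :=
    { carrier := {g | ρ g * e = e * ρ g}
      one_mem' := by simp
      mul_mem' := fun {a b} ha hb => by
        change ρ (a * b) * e = e * ρ (a * b)
        rw [map_mul, mul_assoc, hb, ← mul_assoc, ha, mul_assoc]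
      inv_mem' := fun {a} ha => by
        change ρ a⁻¹ * e = e * ρ a⁻¹
        calc ρ a⁻¹ * e = ρ a⁻¹ * (e * ρ a) * ρ a⁻¹ := by
              rw [mul_assoc, mul_assoc, ← map_mul]; simp
          _ = _ := by rw [← ha, ← mul_assoc, ← map_mul]; simp }
  have k : ∀ a b, a ∉ K → b ∉ K → a * b ∈ K := fun a b ha hb => by
    have h1 := (he a).resolve_left ha
    change ρ (a * b) * e = e * ρ (a * b)
    rw [map_mul, mul_assoc, (he b).resolve_left hb, ← mul_assoc, mul_sub, h1]
    noncomm_ring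
  have t : K = ⊤ := by_contra fun h => by
    have i2 : K.index = 2 := index_eq_two_iff.2 (by
      obtain ⟨a, ha⟩ : ∃ a, a ∉ K := by_contra fun hn => h (eq_top_iff.2 fun a _ => by
        simpa using not_exists.1 hn a)
      refine ⟨a, fun b => ?_⟩
      by_cases hb : b ∈ K
      · exact Or.inr ⟨hb, mt (mul_mem_cancel_left hb).1 ha⟩
      · exact Or.inl ⟨k b a hb ha, hb⟩)
    have := normal_of_index_eq_two i2
    have : IsCyclic (G ⧸ K) := isCyclic_of_prime_card (p := 2) i2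
    exact h (top_le_iff.1 (m.perf ▸ Normal.quotient_commutative_iff_commutator_le.1 inferInstance))
  exact (nc e ee fun g => (t.ge (mem_top g)).symm).elim e0 e1

theorem mainThm (r : RL.{u, v}) (tb : TBThm.{u}) (en : EndThm.{u, v}) : MainThm.{u, v} := by
  suffices h : ∀ n, ∀ (R : Type v) [Ring R] [Algebra ℚ R] (G : Type u) [Group G] [Finite G]
      (ρ : G →* R), Nat.card G = n → Ok R → Function.Injective ρ → Good G from
    fun R _ _ G _ _ ρ => h _ R G ρ rfl
  intro n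
  induction n using Nat.strong_induction_on with
  | _ n IH =>
  intro R _ _ G _ _ ρ hn ok hi N _ hs na
  have ih : ∀ H : Subgroup G, H ≠ ⊤ → Good H := fun H h =>
    IH _ (by rw [← hn, ← card_top (G := G)]; exact card_lt_of_lt (lt_top_iff_ne_top.2 h)) R H
      (ρ.comp H.subtype) rfl ok (hi.comp H.subtype_injective)
  by_cases h : ∃ H : Subgroup G, H.map (QuotientGroup.mk' N) = ⊤ ∧ H ≠ ⊤
  · obtain ⟨H, e, h⟩ := h
    refine (ih H h).of (f := (QuotientGroup.mk' N).comp H.subtype) (fun x => ?_) hs na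
    obtain ⟨g, hg, rfl⟩ := e.ge (mem_top x)
    exact ⟨⟨g, hg⟩, rfl⟩
  have m : Mn (QuotientGroup.mk' N) := ⟨QuotientGroup.mk'_surjective N, hs, na,
    fun H e => by_contra fun t => h ⟨H, e, t⟩⟩
  have k : ∀ e : R, e * e = e → e ≠ 1 → e ≠ 0 → (∀ g, e * ρ g = ρ g * e) →
      (∃ g, e * ρ g ≠ e) → L59 (G ⧸ N) := by
    rintro e ee e1 e0 c ⟨g, hg⟩
    obtain ⟨R2, _, _, σ, ok2, id2, hσ⟩ := r.corner R G ρ e ok ee e1 e0 c
    by_cases b : σ.ker = ⊥
    · exact m.irr r tb en ok2 ((MonoidHom.ker_eq_bot_iff σ).1 b) ih fun e ee _ => id2 e ee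
    have le := m.le_ker (K := σ.ker) inferInstance fun t => hg ((hσ g).1 (t.ge (mem_top g)))
    have lt : Nat.card (G ⧸ σ.ker) < n := by
      have h1 := card_eq_card_quotient_mul_card_subgroup σ.ker
      have h2 : 1 < Nat.card σ.ker := (Subgroup.one_lt_card_iff_ne_bot σ.ker).2 b
      have h3 : 0 < Nat.card (G ⧸ σ.ker) := Nat.card_pos
      nlinarith
    have gd : Good (G ⧸ σ.ker) := IH _ lt R2 (G ⧸ σ.ker) (QuotientGroup.lift σ.ker σ le_rfl) rfl
      ok2 ((injective_iff_map_eq_one _).2 fun q hq => by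
        obtain ⟨g, rfl⟩ := QuotientGroup.mk_surjective q
        exact (QuotientGroup.eq_one_iff g).2 hq)
    refine gd.of (f := QuotientGroup.lift σ.ker (QuotientGroup.mk' N) le) (fun x => ?_) hs na
    obtain ⟨g, rfl⟩ := m.surj x
    exact ⟨QuotientGroup.mk g, QuotientGroup.lift_mk _ _ _⟩
  by_cases nc : ∀ e : R, e * e = e → (∀ g, e * ρ g = ρ g * e) → e = 0 ∨ e = 1
  · exact m.irr r tb en ok hi ih nc
  push Not at nc
  obtain ⟨e, ee, c, e0, e1⟩ := nc
  by_cases h1 : ∃ g, e * ρ g ≠ e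
  · exact k e ee e1 e0 c h1
  refine k (1 - e) (by noncomm_ring [ee]) (fun h => e0 (by simpa using h))
    (fun h => e1 (sub_eq_zero.1 h).symm) (fun g => by rw [sub_mul, mul_sub, c]; simp) ?_
  by_contra! h2
  push Not at h1
  refine m.ns (Group.isSolvable_of_comm fun a b => hi ?_)
  have : ∀ g, ρ g = 1 := fun g => by
    have := h2 g
    rw [sub_mul, h1, one_mul] at this
    exact sub_left_injective this
  rw [this, this]

theorem ne_bot (r : RL.{u, v}) (ok : Ok R) (hi : Function.Injective ρ) {N : Subgroup G} [N.Normal]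
    (hs : IsSimpleGroup (G ⧸ N)) (na : ¬ IsMulCommutative (G ⧸ N)) : N ≠ ⊥ := by
  rintro rfl
  have e := QuotientGroup.quotientBot (G := G)
  have := e.symm.isSimpleGroup
  have nc : ¬ IsMulCommutative G := fun c => na ⟨⟨fun a b => e.injective (by
    rw [map_mul, map_mul, c.1.1])⟩⟩
  have m : Mn (MonoidHom.id G) := ⟨Function.surjective_id, this, nc, fun H h => by simpa using h⟩
  have z : ∀ x ∈ center G, x = 1 := fun x hx => m.ZN hx
  obtain ⟨t, -, ot⟩ := ex_inv (K := (⊤ : Subgroup G)) fun h => m.ns (by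
    have := odd_solv h
    exact Group.isSolvable_of_surjective (f := (⊤ : Subgroup G).subtype)
      fun x => ⟨⟨x, trivial⟩, rfl⟩)
  have tc : t ∉ center G := fun h => ine ot (z t h)
  refine tc (mem_center_iff.2 fun g => ?_)
  have h : g * t * g⁻¹ * t⁻¹ = 1 := m.le_of_solv (pPrimeCore_normal 2 G)
    (odd_solv (odd_iff_cop.2 (coprime_card_pPrimeCore 2 G))) (L.zstar' ot (fun g c => ?_) g)
  · rwa [mul_inv_eq_one, mul_inv_eq_iff_eq_mul] at h
  have o2 := iconj ot g
  rcases r.a1' ok hi (ii ot) (ii o2) c tc with e | e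
  · exact absurd (z _ e) (ine o2)
  · rw [eq_inv_of_mul_eq_one_left (z _ e), iinv ot]

end Cfsg.Agent.DR
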