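import Cfsg.Agent.DR.Q2
import Cfsg.Agent.DR.R2

/-! Finite subgroups of `GL₂(D)`: assembly. -/

set_option autoImplicit false

namespace Cfsg.Agent.DR

universe u v

theorem rl : RL.{u, v} :=
  ⟨fun _ _ _ _ _ _ ρ _ h he e1 e0 c => by
    obtain ⟨R2, _, _, σ, h1, -, h2⟩ := corner ρ h he e1 e0 c
    exact ⟨R2, _, _, σ, h1, h2⟩,
  fun _ _ _ _ _ h => h.a1', fun _ _ _ _ _ _ ρ h i _ hp A _ => h.r4n ρ i hp A,
  fun _ _ _ _ _ _ ρ h i _ hp p2 _ => h.r5 ρ i hp p2,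
  fun _ _ _ _ _ _ ρ h i _ _ _ t2 u2 ho h1 hx => h.a2 ρ i t2 u2 ho h1 hx⟩

theorem final (tb : TBThm.{u}) (en : EndThm.{u, u}) {D : Type u} [DivisionRing D] [CharZero D]
    (G : Subgroup (Matrix (Fin 2) (Fin 2) D)ˣ) [Finite G] (N : Subgroup G) [N.Normal]
    (hS : IsSimpleGroup (G ⧸ N)) (hna : ¬ IsMulCommutative (G ⧸ N)) : L59 (G ⧸ N) ∧ N ≠ ⊥ :=
  have i : Function.Injective ((Units.coeHom _).comp G.subtype) :=
    Units.val_injective.comp G.subtype_injective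
  ⟨mainThm rl tb en _ G _ (okMat D) i N hS hna, ne_bot rl (okMat D) i hS hna⟩

end Cfsg.Agent.DR
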