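import Cfsg.Agent.DR.Stmt
import Cfsg.Agent.TW.Trf
import Cfsg.Agent.H7.CyclicTwo
import Cfsg.Agent.H3.ZCor

/-! Two-local analysis: a normal four-group, a reflection outside, the abelian case. -/

set_option autoImplicit false
set_option linter.unusedSectionVars false
set_option linter.unusedVariables false
open Subgroup H5

namespace Cfsg.Agent.DR

variable {G : Type*} [Group G] [Finite G] {S K : Subgroup G} {ε t s : G}

theorem Hy.ce (h : Hy G ε) (g : G) : g * ε * g⁻¹ = ε := by rw [← h.ec]; group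

theorem Hy.eS (h : Hy G ε) (hS : IsSylowOf 2 S ⊤) : ε ∈ S := by
  have : zpowers ε ≤ S := hS.le_of_le_normalizer
    (IsPGroup.of_card (n := 1) (by
      rw [Nat.card_zpowers, orderOf_eq_prime (by rw [pow_two, h.e2]) h.e1, pow_one])) le_top
    fun g _ => mem_normalizer_fintype fun x hx => by
      obtain ⟨k, rfl⟩ := mem_zpowers_iff.1 hx
      rw [← conj_zpow, h.ce]; exact zpow_mem (mem_zpowers _) _
  exact this (mem_zpowers _)

theorem Hy.cne (h : Hy G ε) (te : t ≠ ε) (g : G) : g * t * g⁻¹ ≠ ε := fun e => te (by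
  rw [← h.ce g⁻¹, ← e]; group)

theorem cn1 (t1 : t ≠ 1) (g : G) : g * t * g⁻¹ ≠ 1 := fun e => t1 (by
  rw [show t = g⁻¹ * (g * t * g⁻¹) * g by group, e]; group)

theorem c2 (t2 : t * t = 1) (g : G) : g * t * g⁻¹ * (g * t * g⁻¹) = 1 := by
  rw [show g * t * g⁻¹ * (g * t * g⁻¹) = g * (t * t) * g⁻¹ by group, t2]; group

theorem Hy.t0 (h : Hy G ε) (hS : IsSylowOf 2 S ⊤) (hK : K ≤ S)
    (hc : ∀ x ∈ S, ∀ y ∈ S, x * y * x⁻¹ * y⁻¹ ∈ K) (eK : ε ∈ K) (tS : t ∈ S) (tK : t ∉ K)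
    (t2 : t * t = 1) (hb : ∀ s ∈ S, s * s = 1 → s ≠ 1 → s ≠ ε → s * t ∈ K) : False := by
  have := h.perf
  obtain ⟨g, h1, -⟩ := TW.gtr (P := ⊥) hS hK hc tS tK (t2 ▸ K.one_mem) (fun s sS s2 => by
    by_cases a : s = 1
    · exact .inl (a ▸ K.one_mem)
    by_cases b : s = ε
    · exact .inl (b ▸ eK)
    exact .inr (hb s sS s2 a b)) t2 IsPGroup.of_bot bot_le
  have t1 : t ≠ 1 := fun e => tK (e ▸ K.one_mem)
  have te : t ≠ ε := fun e => tK (e ▸ eK)
  have := hb _ (hK h1) (by simpa using c2 t2 g⁻¹) (by simpa using cn1 t1 g⁻¹)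
    (by simpa using h.cne te g⁻¹)
  exact tK ((K.mul_mem_cancel_left h1).1 this)

theorem Hy.ex_t (h : Hy G ε) (hS : IsSylowOf 2 S ⊤) (t2 : t * t = 1) (t1 : t ≠ 1) (te : t ≠ ε) :
    ∃ t ∈ S, t * t = 1 ∧ t ≠ 1 ∧ t ≠ ε ∧ ∀ x ∈ S, x * t * x⁻¹ = t ∨ x * t * x⁻¹ = ε * t := by
  obtain ⟨k, -, hk⟩ := hS.exists_conj_le (Q := zpowers t) (IsPGroup.of_card (n := 1) (by
      rw [Nat.card_zpowers, orderOf_eq_prime (by rw [pow_two, t2]) t1, pow_one])) le_top
  have rS : k * t * k⁻¹ ∈ S := hk ⟨t, mem_zpowers _, rfl⟩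
  have r2 := c2 t2 k
  have r1 := cn1 t1 k
  have re := h.cne te k
  generalize k * t * k⁻¹ = r at rS r2 r1 re
  have eS := h.eS hS
  rcases H7.exists_normal_four_or_cyclic_index hS.isPGroup with ⟨U, hU, el, c4⟩ | ⟨a, ha⟩
  · obtain ⟨u, uU, u1, ue⟩ : ∃ u ∈ U, u ≠ 1 ∧ u ≠ ⟨ε, eS⟩ := by
      by_contra! hh
      classical
      have : (U : Set S) ⊆ {1, ⟨ε, eS⟩} := fun x hx => by
        by_cases a : x = 1
        · exact .inl a
        · exact .inr (hh x hx a)
      have h1 := Set.ncard_le_ncard this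
      have h2 := Set.ncard_insert_le (1 : S) {⟨ε, eS⟩}
      rw [Set.ncard_singleton] at h2
      rw [← Nat.card_coe_set_eq] at h1
      change Nat.card U ≤ _ at h1
      omega
    have sq : ∀ x ∈ U, (x : G) * x = 1 := fun x hx => by
      have := congrArg Subtype.val (el.2 x hx)
      simpa [pow_two] using this
    have u1' : (u : G) ≠ 1 := fun e => u1 (Subtype.ext e)
    have ue' : (u : G) ≠ ε := fun e => ue (Subtype.ext e)
    refine ⟨u, u.2, sq u uU, u1', ue', fun x hx => ?_⟩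
    have m := hU.conj_mem u uU ⟨x, hx⟩
    have cm := congrArg (fun z : U => ((z : S) : G)) (el.1.is_comm.comm ⟨u, uU⟩ ⟨_, m⟩)
    rcases h.a1 u (x * u * x⁻¹) (sq u uU) (c2 (sq u uU) x) cm u1' ue' with e | e | e | e
    · exact absurd e (cn1 u1' x)
    · exact absurd e (h.cne ue' x)
    · exact .inl e
    · exact .inr e
  · have i2 : ∀ x y : S, x ∉ zpowers a → y ∉ zpowers a → x * y ∈ zpowers a := fun x y hx hy => by
      rcases (Nat.dvd_prime Nat.prime_two).1 ha with e | e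
      · exact absurd (index_eq_one.1 e ▸ mem_top x) hx
      · exact (mul_mem_iff_of_index_two e).2 (by tauto)
    by_cases ea : (⟨ε, eS⟩ : S) ∈ zpowers a
    · have i2' : ∀ x ∈ S, ∀ y ∈ S, x ∉ zpowers (a : G) → y ∉ zpowers (a : G) →
          x * y ∈ zpowers (a : G) := fun x hx y hy h1 h2 => by
        obtain ⟨k, e⟩ := i2 ⟨x, hx⟩ ⟨y, hy⟩ (fun ⟨k, e⟩ => h1 ⟨k, congrArg Subtype.val e⟩)
          (fun ⟨k, e⟩ => h2 ⟨k, congrArg Subtype.val e⟩)
        exact ⟨k, congrArg Subtype.val e⟩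
      have ea' : ε ∈ zpowers (a : G) := by obtain ⟨k, e⟩ := ea; exact ⟨k, congrArg Subtype.val e⟩
      have nk : ∀ s, s * s = 1 → s ≠ 1 → s ≠ ε → s ∉ zpowers (a : G) := fun s s2 s1 se m => by
        have := L.mem_zpowers_of_orderOf_dvd ea' m (by
          rw [orderOf_eq_prime (p := 2) (by rw [pow_two, h.e2]) h.e1]
          exact orderOf_dvd_of_pow_eq_one (by rw [pow_two, s2]))
        obtain ⟨k, rfl⟩ := mem_zpowers_iff.1 this
        rcases Int.even_or_odd' k with ⟨l, rfl | rfl⟩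
        · exact s1 (by rw [zpow_mul, zpow_two, h.e2, one_zpow])
        · exact se (by rw [zpow_add, zpow_mul, zpow_two, h.e2, one_zpow, one_mul, zpow_one])
      exact (h.t0 hS (zpowers_le.2 a.2) (fun x hx y hy => TW.cm2 i2' hx hy) ea' rS
        (nk r r2 r1 re) r2 fun s sS s2 s1 se => i2' s sS r rS (nk s s2 s1 se) (nk r r2 r1 re)).elim
    · refine ⟨r, rS, r2, r1, re, fun x hx => .inl ?_⟩
      have key : ∀ x ∈ S, ∃ k : ℤ, x = (a : G) ^ k ∨ x = (a : G) ^ k * ε := fun x hx => by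
        by_cases m : (⟨x, hx⟩ : S) ∈ zpowers a
        · obtain ⟨k, e⟩ := m; exact ⟨k, .inl (congrArg Subtype.val e).symm⟩
        · obtain ⟨k, e⟩ := i2 _ _ m ea
          refine ⟨k, .inr ?_⟩
          have e' : (a : G) ^ k = x * ε := congrArg Subtype.val e
          rw [e', mul_assoc, h.e2, mul_one]
      have ce : ∀ g, Commute ε g := h.ec
      obtain ⟨k, e1⟩ := key x hx
      obtain ⟨l, e2⟩ := key r rS
      have c0 := zpow_mul_comm (a : G) k l
      have : Commute x r := by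
        rcases e1 with rfl | rfl <;> rcases e2 with rfl | rfl
        · exact c0
        · exact (Commute.mul_right c0 (ce _).symm)
        · exact (Commute.mul_left c0 (ce _))
        · exact (Commute.mul_left (Commute.mul_right c0 (ce _).symm) (ce _))
      rw [this.eq]; group

theorem Hy.nz (h : Hy G ε) (t2 : t * t = 1) (t1 : t ≠ 1) (te : t ≠ ε) : t ∉ center G :=
  fun m => (h.zi t m t2).elim t1 te

theorem Hy.zS (h : Hy G ε) (hS : IsSylowOf 2 S ⊤) : center G ≤ S :=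
  hS.le_of_le_normalizer h.z2 le_top (le_normalizer_of_normal)

theorem Hy.ex_s (h : Hy G ε) (hS : IsSylowOf 2 S ⊤) (tS : t ∈ S) (t2 : t * t = 1) (t1 : t ≠ 1)
    (te : t ≠ ε) (hn : ∀ x ∈ S, x * t * x⁻¹ = t ∨ x * t * x⁻¹ = ε * t) :
    ∃ s ∈ S, s * s = 1 ∧ s * t * s = ε * t := by
  have := h.simp
  have := h.perf
  let π := QuotientGroup.mk' (center G)
  have sj : Function.Surjective π := QuotientGroup.mk'_surjective _
  have eZ : π ε = 1 := (QuotientGroup.eq_one_iff _).2 (mem_center_iff.2 fun g => (h.ec g).symm)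
  have o2 : orderOf (π t) = 2 := orderOf_eq_prime (by rw [← map_pow, pow_two, t2, map_one])
    fun e => h.nz t2 t1 te ((QuotientGroup.eq_one_iff _).1 e)
  by_contra! hh
  have hT : IsSylowOf 2 (S.map π) (centralizer {π t}) := (hS.map π).of_le (by
    rintro _ ⟨x, hx, rfl⟩
    rw [mem_centralizer_singleton_iff, ← mul_inv_eq_iff_eq_mul, ← map_mul, ← map_inv, ← map_mul]
    rcases hn x hx with e | e <;> rw [e]
    rw [map_mul, eZ, one_mul]) (by rw [map_top_of_surjective _ sj]; exact le_top)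
  have iso := H3.isolated_of_weaklyClosed (p := 2) ⟨1, by rw [pow_one, ← o2, pow_orderOf_eq_one]⟩
    hT fun g hg => by
      obtain ⟨g, rfl⟩ := sj g
      obtain ⟨x, hx, e⟩ := hg
      rw [← map_mul, ← map_inv, ← map_mul] at e ⊢
      have m : g * t * g⁻¹ ∈ S := by
        have := h.zS hS (QuotientGroup.eq.1 e)
        exact (S.mul_mem_cancel_left (S.inv_mem hx)).1 this
      have r2 := c2 t2 g
      have ri : (g * t * g⁻¹)⁻¹ = g * t * g⁻¹ := inv_eq_of_mul_eq_one_right r2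
      rcases hn _ m with e | e
      · rcases h.a1 t _ t2 r2 (by rw [← mul_inv_eq_iff_eq_mul.1 e]) t1 te with e | e | e | e
        · exact absurd e (cn1 t1 g)
        · exact absurd e (h.cne te g)
        · rw [e]
        · rw [e, map_mul, eZ, one_mul]
      · exact absurd (by rwa [ri] at e) (hh _ m r2)
  have cm := H3.comm_of_isolated o2 iso
  have : Group.IsPerfect (G ⧸ center G) := inferInstance
  exact Group.IsPerfect.not_isMulCommutative (G := G ⧸ center G) ⟨⟨cm⟩⟩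

end Cfsg.Agent.DR
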