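import Cfsg.Agent.DR.T1

/-! Two-local analysis: the abelian case and the configuration `Cf`. -/

set_option autoImplicit false
set_option linter.unusedSectionVars false
set_option linter.unusedVariables false
open Subgroup H5 FT

namespace Cfsg.Agent.DR

variable {G : Type*} [Group G] [Finite G] {S K : Subgroup G} {ε t s : G}

structure St (S : Subgroup G) (ε t s : G) : Prop where
  syl : H5.IsSylowOf 2 S ⊤
  tS : t ∈ S
  sS : s ∈ S
  t2 : t * t = 1
  t1 : t ≠ 1
  te : t ≠ ε
  s2 : s * s = 1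
  st : s * t * s = ε * t
  idx : ∀ x ∈ S, x * t = t * x ∨ x * s * t = t * (x * s)

theorem Cf.St {y j : G} {n : ℕ} (c : Cf S ε t s y j n) : St S ε t s :=
  ⟨c.syl, c.tS, c.sS, c.t2, c.t1, c.te, c.s2, c.st, c.idx⟩

theorem Hy.ex_St (h : Hy G ε) (t2 : t * t = 1) (t1 : t ≠ 1) (te : t ≠ ε) :
    ∃ (S : Subgroup G) (t s : G), St S ε t s := by
  obtain ⟨S, hS⟩ := exists_isSylowOf 2 (⊤ : Subgroup G)
  obtain ⟨t, tS, t2, t1, te, hn⟩ := h.ex_t hS t2 t1 te
  obtain ⟨s, sS, s2, st⟩ := h.ex_s hS tS t2 t1 te hn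
  refine ⟨S, t, s, hS, tS, sS, t2, t1, te, s2, st, fun x hx => (hn x hx).imp
    mul_inv_eq_iff_eq_mul.1 fun e => ?_⟩
  rw [← mul_inv_eq_iff_eq_mul, mul_inv_rev, inv_eq_of_mul_eq_one_right s2,
    show x * s * t * (s * x⁻¹) = x * (s * t * s) * x⁻¹ by group, st,
    show x * (ε * t) * x⁻¹ = x * ε * x⁻¹ * (x * t * x⁻¹) by group, h.ce, e, ← mul_assoc, h.e2,
    one_mul]

namespace St
variable (h : Hy G ε) (c : St S ε t s)
include h c

theorem si : s⁻¹ = s := inv_eq_of_mul_eq_one_right c.s2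
theorem ti : t⁻¹ = t := inv_eq_of_mul_eq_one_right c.t2

theorem st' : s * t = ε * (t * s) := by
  rw [← mul_assoc, ← c.st, mul_assoc, c.s2, mul_one]

theorem nst : s * t ≠ t * s := fun e => h.e1 (by
  have := c.st' h; rwa [e, eq_comm, mul_eq_right] at this)

theorem sig {x : G} (hx : x * t = t * x) : s * x * s * t = t * (s * x * s) := by
  calc s * x * s * t = s * x * (s * t) := by group
    _ = ε * (s * (x * t) * s) := by rw [c.st' h, ← mul_assoc, ← h.ec]; group
    _ = ε * (s * t) * x * s := by rw [hx]; group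
    _ = _ := by rw [c.st' h, ← mul_assoc, h.e2]; group

theorem ss (x : G) : s * (s * x * s) * s = x := by
  rw [show s * (s * x * s) * s = s * s * x * (s * s) by group, c.s2]; group

theorem ts2 : t * s * (t * s) = ε := by
  rw [show t * s * (t * s) = t * (s * t * s) by group, c.st, ← mul_assoc, ← h.ec, mul_assoc, c.t2,
    mul_one]

theorem fin {J : Subgroup G} (hJ : J ≤ S ⊓ Cen1 t) (tJ : t ∉ J) (eJ : ε ∈ J)
    (sJ : ∀ x ∈ J, s * x * s ∈ J)
    (hi : ∀ x ∈ S, x * t = t * x → x * (s * x * s) = 1 → x ∈ J)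
    (hc : (∀ x ∈ S, ∀ y ∈ S, x * y * x⁻¹ * y⁻¹ ∈ J) ∨
      ∀ x ∈ S, x * t = t * x → x ∈ J ∨ x * t ∈ J) : False := by
  have cJ : ∀ x ∈ J, x * t = t * x := fun x hx => mem_centralizer_singleton_iff.1 (hJ hx).2
  have tn : t * s ∈ Nor J := mem_normalizer_fintype fun x hx => by
    rw [mul_inv_rev, c.si h, c.ti h, show t * s * x * (s * t) = t * (s * x * s * t) by group,
      c.sig h (cJ x hx), ← mul_assoc, c.t2, one_mul]
    exact sJ x hx
  have mm := fun x => TW.mem_sup_zp' (x := x) (c.ts2 h ▸ eJ : t * s * (t * s) ∈ J) tn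
  have KS : J ⊔ zpowers (t * s) ≤ S :=
    sup_le (hJ.trans inf_le_left) (zpowers_le.2 (S.mul_mem c.tS c.sS))
  have tK : t ∉ J ⊔ zpowers (t * s) := fun m => by
    rcases (mm t).1 m with e | e
    · exact tJ e
    · rw [← mul_assoc, c.t2, one_mul] at e; exact c.nst h (cJ s e)
  refine h.t0 c.syl KS ?_ (mem_sup_left eJ) c.tS tK c.t2 fun r rS r2 r1 re => ?_
  · rcases hc with hc | hc
    · exact fun x hx y hy => mem_sup_left (hc x hx y hy)
    have i1 : ∀ x ∈ S, x ∉ J ⊔ zpowers (t * s) → x * t ∈ J ⊔ zpowers (t * s) := fun x hx m => by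
      rcases c.idx x hx with e | e
      · exact mem_sup_left ((hc x hx e).resolve_left fun a => m (mem_sup_left a))
      · rcases hc _ (S.mul_mem hx c.sS) e with a | a
        · refine (mm _).2 (.inr ?_)
          rwa [show x * t * (t * s) = x * (t * t) * s by group, c.t2, mul_one]
        · refine absurd ((mm _).2 (.inr ?_)) m
          rw [mul_assoc, c.st' h, ← mul_assoc, ← h.ec, mul_assoc] at a
          exact (J.mul_mem_cancel_left eJ).1 a
    refine fun x hx y hy => TW.cm2 (fun x hx y hy m1 m2 => ?_) hx hy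
    have := mul_mem (i1 x hx m1) (inv_mem (i1 _ (S.inv_mem hy) fun a => m2 (inv_mem_iff.1 a)))
    rwa [show x * t * (y⁻¹ * t)⁻¹ = x * y by group] at this
  · rcases c.idx r rS with e | e
    · rcases h.a1 t r c.t2 r2 e.symm c.t1 c.te with a | a | a | a
      · exact absurd a r1
      · exact absurd a re
      · rw [a, c.t2]; exact one_mem _
      · rw [a, mul_assoc, c.t2, mul_one]; exact mem_sup_left eJ
    · refine (mm _).2 (.inr ?_)
      rw [show r * t * (t * s) = r * (t * t) * s by group, c.t2, mul_one]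
      refine hi _ (S.mul_mem rS c.sS) e ?_
      rw [show r * s * (s * (r * s) * s) = r * (s * s) * r * (s * s) by group, c.s2, mul_one,
        mul_one, r2]

theorem nab (ab : ∀ x ∈ S, x * t = t * x → ∀ y ∈ S, y * t = t * y → x * y = y * x) : False := by
  have sS : ∀ x ∈ S, s * x * s ∈ S := fun x hx => S.mul_mem (S.mul_mem c.sS hx) c.sS
  have ci : ∀ x : G, x * t = t * x → x⁻¹ * t = t * x⁻¹ := fun x e => (Commute.inv_left e : _)
  have cm : ∀ x y : G, x * t = t * x → y * t = t * y → x * y * t = t * (x * y) :=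
    fun x y e f => (Commute.mul_left e f : _)
  have sm : ∀ x y : G, s * (x * y) * s = s * x * s * (s * y * s) := fun x y => by
    rw [show s * x * s * (s * y * s) = s * x * (s * s) * y * s by group, c.s2]; group
  have sv : ∀ x : G, s * x⁻¹ * s = (s * x * s)⁻¹ := fun x => by
    rw [mul_inv_rev, mul_inv_rev, c.si h, mul_assoc]
  let J : Subgroup G :=
    { carrier := {x | x ∈ S ∧ x * t = t * x ∧ s * x * s = x⁻¹}
      one_mem' := ⟨S.one_mem, by simp, by simp [c.s2]⟩
      mul_mem' := fun {x y} ⟨a1, a2, a3⟩ ⟨b1, b2, b3⟩ => ⟨S.mul_mem a1 b1, cm x y a2 b2, by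
        rw [sm, a3, b3, ← mul_inv_rev, ab x a1 a2 y b1 b2]⟩
      inv_mem' := fun {x} ⟨a1, a2, a3⟩ => ⟨S.inv_mem a1, ci x a2, by rw [sv, a3]⟩ }
  have k1 : ∀ z ∈ S, z * t = t * z → z * (s * z * s)⁻¹ ∈ J := fun z a1 a2 =>
    ⟨S.mul_mem a1 (S.inv_mem (sS z a1)), cm _ _ a2 (ci _ (c.sig h a2)), by
      rw [sm, sv, c.ss h, mul_inv_rev, inv_inv]⟩
  have k2 : ∀ x ∈ S, x * t = t * x → ∀ y ∈ S, x * y * x⁻¹ * y⁻¹ ∈ J := fun x a1 a2 y b1 => by
    rcases c.idx y b1 with e | e
    · rw [ab x a1 a2 y b1 e]; simp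
    · have := ab _ (S.mul_mem b1 c.sS) e _ (S.inv_mem (sS x a1)) (ci _ (c.sig h a2))
      have e2 : x * y * x⁻¹ * y⁻¹ = x * (y * s * (s * x * s)⁻¹) * (y * s)⁻¹ := by
        rw [← sv, show y * s * (s * x⁻¹ * s) = y * (s * s) * x⁻¹ * s by group, c.s2]; group
      rw [e2, this]
      simpa [mul_assoc] using k1 x a1 a2
  refine c.fin h (J := J) (fun x hx => ⟨hx.1, mem_centralizer_singleton_iff.2 hx.2.1⟩)
    (fun m => c.nst h ?_) ⟨h.eS c.syl, h.ec t, ?_⟩ (fun x hx => hx.2.2 ▸ J.inv_mem hx)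
    (fun x a1 a2 a3 => ⟨a1, a2, eq_inv_of_mul_eq_one_right a3⟩) (.inl fun x a1 y b1 => ?_)
  · have := m.2.2
    rw [c.ti h] at this
    rw [← mul_left_inj s, this, mul_assoc, c.s2, mul_one]
  · rw [← h.ec, mul_assoc, c.s2, mul_one, eq_inv_iff_mul_eq_one, h.e2]
  · rcases c.idx x a1 with e | e
    · exact k2 x a1 e y b1
    rcases c.idx y b1 with f | f
    · simpa [mul_assoc] using J.inv_mem (k2 y b1 f x a1)
    · have m1 := S.mul_mem a1 c.sS
      have m2 := S.mul_mem b1 c.sS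
      obtain ⟨p, rfl⟩ : ∃ p, x = p * s := ⟨x * s, by rw [mul_assoc, c.s2, mul_one]⟩
      obtain ⟨q, rfl⟩ : ∃ p, y = p * s := ⟨y * s, by rw [mul_assoc, c.s2, mul_one]⟩
      rw [mul_assoc p, c.s2, mul_one] at m1 e
      rw [mul_assoc q, c.s2, mul_one] at m2 f
      have e2 : p * s * (q * s) * (p * s)⁻¹ * (q * s)⁻¹ = p * ((s * (p * q⁻¹) * s)⁻¹ * q⁻¹) := by
        rw [← sv, mul_inv_rev q, c.si h]; group
      have m3 := S.mul_mem m1 (S.inv_mem m2)
      have c3 := cm _ _ e (ci _ f)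
      rw [e2, ab _ (S.inv_mem (sS _ m3)) (ci _ (c.sig h c3)) _ (S.inv_mem m2) (ci _ f),
        ← mul_assoc]
      exact k1 _ m3 c3

theorem ex_Cf : ∃ y j n, Cf S ε t s y j n := by
  let T : Subgroup G := S ⊓ Cen1 t
  have mT : ∀ x : T, (x : G) * t = t * x := fun x => mem_centralizer_singleton_iff.1 x.2.2
  let t' : T := ⟨t, c.tS, mem_centralizer_singleton_iff.2 rfl⟩
  let e' : T := ⟨ε, h.eS c.syl, mem_centralizer_singleton_iff.2 (h.ec t)⟩
  have zc : zpowers t' ≤ center T := zpowers_le.2 (mem_center_iff.2 fun g => Subtype.ext (mT g))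
  have : (zpowers t').Normal := ⟨fun x hx g => by
    rwa [mem_center_iff.1 (zc hx) g, mul_inv_cancel_right]⟩
  let π := QuotientGroup.mk' (zpowers t')
  have sj : Function.Surjective π := QuotientGroup.mk'_surjective _
  have lf : ∀ x z : T, π x = π z → (x : G) = z ∨ (x : G) = t * z := fun x z e => by
    obtain ⟨k, e⟩ := mem_zpowers_iff.1 (QuotientGroup.eq.1 e.symm)
    have e2 : (x : G) = z * t ^ k := by
      rw [show t ^ k = ((t' ^ k : T) : G) from rfl, e]; simp
    rcases Int.even_or_odd' k with ⟨l, rfl | rfl⟩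
    · exact .inl (by rw [e2, zpow_mul, zpow_two, c.t2, one_zpow, mul_one])
    · exact .inr (by rw [e2, zpow_add, zpow_mul, zpow_two, c.t2, one_zpow, one_mul, zpow_one, mT])
  have pt : π t' = 1 := (QuotientGroup.eq_one_iff _).2 (mem_zpowers _)
  have uq : ∀ x : T ⧸ zpowers t', orderOf x = 2 → x = π e' := fun x ox => by
    obtain ⟨x, rfl⟩ := sj x
    have x1 : π x ≠ 1 := fun e => by rw [e, orderOf_one] at ox; omega
    have x2 : (x : G) * x = 1 := by
      rcases lf (x * x) 1 (by rw [map_mul, map_one, ← pow_two, ← ox, pow_orderOf_eq_one]) with e | e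
      · exact e
      · have e : (x : G) * x = t := by simpa using e
        rcases h.a2 x (by rw [e, c.t2]) with a | a
        · exact a
        · exact absurd (e ▸ a) c.te
    rcases h.a1 t x c.t2 x2 (mT x).symm c.t1 c.te with a | a | a | a
    · exact absurd (by rw [show x = 1 from Subtype.ext a, map_one]) x1
    · rw [show x = e' from Subtype.ext a]
    · exact absurd (by rw [show x = t' from Subtype.ext a, pt]) x1
    · rw [show x = e' * t' from Subtype.ext a, map_mul, pt, mul_one]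
  have sqe : ∀ x : T, π x ^ 2 = π e' → (x : G) * x = ε := fun x e => by
    rcases lf (x * x) e' (by rw [map_mul, ← pow_two, e]) with a | a
    · exact a
    · have a : (x : G) * x = t * ε := a
      rcases h.a2 x (by rw [a, mul_assoc, ← mul_assoc ε, h.ec, mul_assoc, h.e2, mul_one, c.t2])
        with b | b
      · rw [a, mul_eq_one_iff_eq_inv, inv_eq_of_mul_eq_one_right h.e2] at b; exact absurd b c.te
      · rw [a, mul_eq_right] at b; exact absurd b c.t1
  have pQ : IsPGroup 2 (T ⧸ zpowers t') := (c.syl.isPGroup.to_le inf_le_left).to_quotient _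
  obtain ⟨P⟩ := (Sylow.nonempty : Nonempty (Sylow 2 (T ⧸ zpowers t')))
  have hP : (P : Subgroup (T ⧸ zpowers t')) = ⊤ := (P.is_maximal' (pQ.to_subgroup ⊤) le_top).symm
  rcases H7.isCyclic_or_quaternion P.isPGroup' (H7.rank_le_one_of_unique_involution
    fun x y hx hy => Subtype.ext (by
      rw [uq x (by rwa [orderOf_coe]), uq y (by rwa [orderOf_coe])])) with cy | ⟨n, ⟨e⟩⟩
  · rw [hP] at cy
    have : IsCyclic (T ⧸ zpowers t') := isCyclic_of_surjective _ topEquiv.surjective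
    have cm := (π.isMulCommutative_of_isCyclic_of_ker_le_center
      (by rwa [QuotientGroup.ker_mk'])).is_comm.comm
    exact (c.nab h fun x a1 a2 y b1 b2 => congrArg Subtype.val
      (cm ⟨x, a1, mem_centralizer_singleton_iff.2 a2⟩ ⟨y, b1, mem_centralizer_singleton_iff.2 b2⟩)).elim
  obtain ⟨a, b, q⟩ := L.exists_QS e
  obtain ⟨y, rfl⟩ := sj a
  obtain ⟨j, rfl⟩ := sj b
  have be := uq _ q.orderOf_t
  have j2 := sqe j be
  have ye : (y : G) ^ 2 ^ (n + 1) = ε := by
    have := sqe (y ^ 2 ^ n) (by rw [map_pow, ← pow_mul, ← pow_succ, ← q.hb2, be])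
    rwa [coe_pow, ← pow_two, ← pow_mul, ← pow_succ] at this
  have oy : orderOf (y : G) = 2 ^ (n + 2) := orderOf_eq_prime_pow (by rw [ye]; exact h.e1)
    (by rw [pow_succ, pow_mul, ye, pow_two, h.e2])
  have jy : (j : G) * y * (j : G)⁻¹ = (y : G)⁻¹ := by
    have := sqe (y * j) (by simpa [be] using q.sq_eq 1)
    rw [coe_mul, ← j2] at this
    calc (j : G) * y * (j : G)⁻¹ = (y : G)⁻¹ * (y * j * (y * j)) * (j : G)⁻¹ * (j : G)⁻¹ := by group
      _ = _ := by rw [this]; group
  have nf : ∀ x ∈ S, x * t = t * x → ∃ i : ℤ, x = (y : G) ^ i ∨ x = t * (y : G) ^ i ∨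
      x = (y : G) ^ i * j ∨ x = t * (y : G) ^ i * j := fun x a1 a2 => by
    obtain ⟨i, e⟩ := q.hmem (π ⟨x, a1, mem_centralizer_singleton_iff.2 a2⟩) (hP ▸ mem_top _)
    refine ⟨i, ?_⟩
    rcases e with e | e
    · rcases lf _ (y ^ i) (by rw [e, map_zpow]) with f | f
      · exact .inl f
      · exact .inr (.inl f)
    · rcases lf _ (y ^ i * j) (by rw [e, map_mul, map_zpow]) with f | f
      · exact .inr (.inr (.inl f))
      · exact .inr (.inr (.inr (by rw [mul_assoc]; exact f)))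
  refine ⟨y, j, n, c.syl, c.tS, c.sS, y.2.1, j.2.1, c.t2, c.t1, c.te, c.s2, c.st, c.idx, mT y, mT j,
    oy, ye, j2, jy, nf, fun z hz => h.zi z hz ?_⟩
  have cz := fun g => mem_center_iff.1 hz g
  have cy : Commute (y : G) t := mT y
  have jj : ∀ i : ℤ, (j : G) * (y : G) ^ i = (y : G) ^ i * j → (y : G) ^ i * (y : G) ^ i = 1 :=
    fun i e => by
      have := conj_zpow (a := (j : G)) (b := (y : G)) (i := i)
      rw [jy, e, mul_inv_cancel_right, inv_zpow] at this
      exact mul_eq_one_iff_eq_inv.2 this.symm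
  have ny : (y : G) * j ≠ j * y := fun e => by
    have := jj 1 (by simpa using e.symm)
    rw [zpow_one, ← pow_two, ← orderOf_dvd_iff_pow_eq_one, oy] at this
    have := Nat.le_of_dvd two_pos this
    rw [pow_add] at this; have := Nat.one_le_two_pow (n := n); omega
  obtain ⟨i, e | e | e | e⟩ := nf z (h.zS c.syl hz) (cz t).symm
  · rw [e]; exact jj i (e ▸ cz j)
  · have := cz j
    rw [e, ← mul_assoc, mT j, mul_assoc, mul_assoc, mul_right_inj] at this
    rw [e, mul_assoc, ← mul_assoc _ t, (cy.zpow_left i).eq, mul_assoc, jj i this, mul_one, c.t2]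
  · have := cz y
    rw [e, ← mul_assoc, ← zpow_one_add, add_comm, zpow_add_one, mul_assoc, mul_assoc,
      mul_right_inj] at this
    exact absurd this ny
  · have := cz y
    rw [e, ← mul_assoc, ← mul_assoc, cy.eq, mul_assoc t, ← zpow_one_add, add_comm, zpow_add_one,
      mul_assoc, mul_assoc, mul_assoc, mul_assoc, mul_right_inj, mul_right_inj] at this
    exact absurd this ny

end St

end Cfsg.Agent.DR
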