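import Cfsg.Agent.DR.T2

/-! Two-local analysis: reduction to `CaseI` and `CaseG`. -/

set_option autoImplicit false
set_option linter.unusedSectionVars false
set_option linter.unusedVariables false
open Subgroup H5 FT

namespace Cfsg.Agent.DR

universe u

variable {G : Type u} [Group G] [Finite G] {S : Subgroup G} {ε t s y j : G} {n : ℕ}

theorem tz (t2 : t * t = 1) (k : ℤ) : t ^ k = 1 ∨ t ^ k = t := by
  rcases Int.even_or_odd' k with ⟨l, rfl | rfl⟩
  · exact .inl (by rw [zpow_mul, zpow_two, t2, one_zpow])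
  · exact .inr (by rw [zpow_add, zpow_mul, zpow_two, t2, one_zpow, one_mul, zpow_one])

namespace Cf
variable (h : Hy G ε) (c : Cf S ε t s y j n)
include h c

theorem cy : Commute t y := c.yt.symm
theorem cj : Commute t j := c.jt.symm

theorem jz (i : ℤ) : j * y ^ i = y ^ (-i) * j := by
  rw [← mul_inv_eq_iff_eq_mul, ← conj_zpow, c.jy, inv_zpow, zpow_neg]

theorem nf' {x : G} (a1 : x ∈ S) (a2 : x * t = t * x) :
    ∃ a i : ℤ, x = t ^ a * y ^ i ∨ x = t ^ a * y ^ i * j := by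
  obtain ⟨i, e | e | e | e⟩ := c.nf x a1 a2
  exacts [⟨0, i, .inl (by simpa using e)⟩, ⟨1, i, .inl (by simpa using e)⟩,
    ⟨0, i, .inr (by simpa using e)⟩, ⟨1, i, .inr (by simpa using e)⟩]

theorem tyz (a i k : ℤ) : (t ^ a * y ^ i) ^ k = t ^ (a * k) * y ^ (i * k) := by
  rw [((c.cy h).zpow_zpow a i).mul_zpow, zpow_mul, zpow_mul]

theorem tym (a i b k : ℤ) : t ^ a * y ^ i * (t ^ b * y ^ k) = t ^ (a + b) * y ^ (i + k) := by
  rw [zpow_add, zpow_add, ((c.cy h).zpow_zpow b i).symm.mul_mul_mul_comm]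

theorem jty (a i : ℤ) : j * (t ^ a * y ^ i) = t ^ a * y ^ (-i) * j := by
  rw [← mul_assoc, ← ((c.cj h).zpow_left a).eq, mul_assoc, c.jz h, mul_assoc]

theorem t2z (a : ℤ) : t ^ (a + a) = 1 := by rw [← two_mul, zpow_mul, zpow_two, c.t2, one_zpow]

theorem sqj (a i : ℤ) : t ^ a * y ^ i * j * (t ^ a * y ^ i * j) = ε := by
  rw [show t ^ a * y ^ i * j * (t ^ a * y ^ i * j) = t ^ a * y ^ i * (j * (t ^ a * y ^ i)) * j by
    group, c.jty h, ← mul_assoc, c.tym h, c.t2z h, add_neg_cancel, zpow_zero, one_mul, one_mul, c.j2]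

theorem yo {i : ℤ} : y ^ i = 1 ↔ (2 : ℤ) ^ (n + 2) ∣ i := by
  rw [← orderOf_dvd_iff_zpow_eq_one, c.oy]; push_cast; rfl

theorem ez {i : ℤ} (hi : Odd i) : ε ^ i = ε := by
  obtain ⟨l, rfl⟩ := hi
  rw [zpow_add, zpow_mul, zpow_two, h.e2, one_zpow, one_mul, zpow_one]

theorem mT (a i : ℤ) : t ^ a * y ^ i ∈ S ∧ t ^ a * y ^ i * t = t * (t ^ a * y ^ i) :=
  ⟨S.mul_mem (S.zpow_mem c.tS _) (S.zpow_mem c.yS _),
    (((Commute.refl t).zpow_left a).mul_left ((c.cy h).symm.zpow_left i) : _)⟩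

theorem mT' (a i : ℤ) : t ^ a * y ^ i * j ∈ S ∧ t ^ a * y ^ i * j * t = t * (t ^ a * y ^ i * j) :=
  ⟨S.mul_mem (c.mT h a i).1 c.jS, (Commute.mul_left (c.mT h a i).2 (c.cj h).symm : _)⟩

theorem chg (a b k : ℤ) {i : ℤ} (hi : Odd i) :
    Cf S ε t s (t ^ a * y ^ i) (t ^ b * y ^ k * j) n := by
  have ye : (t ^ a * y ^ i) ^ 2 ^ (n + 1) = ε := by
    rw [← zpow_natCast, c.tyz h, mul_comm i, zpow_mul y, zpow_natCast, c.ye, c.ez h hi]
    push_cast
    rw [pow_succ, ← mul_assoc, mul_two, c.t2z h, one_mul]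
  obtain ⟨m, l, e⟩ := (H7.isCoprime_two_pow_of_odd hi (n + 2)).symm
  have e1 : ∀ r : ℤ, (t ^ a * y ^ i) ^ (m * r) = t ^ (a * (m * r)) * y ^ r := fun r => by
    rw [c.tyz h, show i * (m * r) = r + 2 ^ (n + 2) * (-l * r) by linear_combination r * e,
      zpow_add, (c.yo h).2 (dvd_mul_right _ _), mul_one]
  have nn : ∀ (x z : G) (d r : ℤ), x = t ^ d * (t ^ a * y ^ i) ^ r * z →
      x = (t ^ a * y ^ i) ^ r * z ∨ x = t * (t ^ a * y ^ i) ^ r * z := fun x z d r e => by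
    rcases tz c.t2 d with f | f <;> rw [f] at e
    · exact .inl (by rwa [one_mul] at e)
    · exact .inr e
  refine ⟨c.syl, c.tS, c.sS, (c.mT h a i).1, (c.mT' h b k).1, c.t2, c.t1, c.te, c.s2, c.st, c.idx,
    (c.mT h a i).2, (c.mT' h b k).2, orderOf_eq_prime_pow (by rw [ye]; exact h.e1)
    (by rw [pow_succ, pow_mul, ye, pow_two, h.e2]), ye, c.sqj h b k, ?_, fun x a1 a2 => ?_, c.zc⟩
  · rw [mul_inv_eq_iff_eq_mul, mul_assoc, c.jty h, ← mul_assoc, c.tym h, ← zpow_neg_one, c.tyz h,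
      ← mul_assoc, c.tym h, show a * -1 + b = b + a - (a + a) by ring, zpow_sub, c.t2z h, add_comm k]
    simp
  · obtain ⟨d, r, e | e⟩ := c.nf' h a1 a2
    · refine ⟨m * r, ?_⟩
      rcases nn x 1 (d - a * (m * r)) (m * r) (by rw [e1, e]; group) with f | f
      · exact .inl (by rwa [mul_one] at f)
      · exact .inr (.inl (by rwa [mul_one] at f))
    · refine ⟨m * (r - k), .inr (.inr (nn x _ (d - b - a * (m * (r - k))) _ ?_))⟩
      rw [e1, e, ← mul_assoc (t ^ _), ← zpow_add, ← mul_assoc, c.tym h]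
      congr 3 <;> ring

omit h c in
theorem swap (h : Hy G ε) (c : Cf S ε t s y j 0) : Cf S ε t s j y 0 := by
  have y2 : y * y = ε := by simpa [pow_two] using c.ye
  have ji : j⁻¹ = ε * j := by rw [inv_eq_iff_mul_eq_one, ← mul_assoc, ← h.ec, mul_assoc, c.j2, h.e2]
  have yi : y⁻¹ = ε * y := by rw [inv_eq_iff_mul_eq_one, ← mul_assoc, ← h.ec, mul_assoc, y2, h.e2]
  have jy : j * y = ε * (y * j) := by rw [← mul_assoc, ← yi, ← c.jy]; group
  have yj : y * j = ε * (j * y) := by rw [jy, ← mul_assoc, h.e2, one_mul]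
  have je : j ^ 2 ^ (0 + 1) = ε := by simpa [pow_two] using c.j2
  refine ⟨c.syl, c.tS, c.sS, c.jS, c.yS, c.t2, c.t1, c.te, c.s2, c.st, c.idx, c.jt, c.yt,
    orderOf_eq_prime_pow (by rw [je]; exact h.e1)
    (by rw [pow_succ, pow_mul, je, pow_two, h.e2]), je, y2, by rw [yj, ji]; group,
    fun x a1 a2 => ?_, c.zc⟩
  have e2 : j ^ (2 : ℤ) = ε := by rw [zpow_two, c.j2]
  have e3 : j ^ (3 : ℤ) = ε * j := by rw [← e2, ← zpow_add_one]; rfl
  have yz : ∀ i : ℤ, y ^ i = 1 ∨ y ^ i = ε ∨ y ^ i = y ∨ y ^ i = ε * y := fun i => by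
    rcases Int.even_or_odd' i with ⟨l, rfl | rfl⟩
    · rw [zpow_mul, zpow_two, y2]; rcases tz h.e2 l with f | f <;> simp [f]
    · rw [zpow_add, zpow_mul, zpow_two, y2]; rcases tz h.e2 l with f | f <;> simp [f]
  have key : ∀ i : ℤ, (∃ k : ℤ, y ^ i = j ^ k ∨ y ^ i = j ^ k * y) ∧
      ∃ k : ℤ, y ^ i * j = j ^ k ∨ y ^ i * j = j ^ k * y := fun i => by
    rcases yz i with f | f | f | f <;> rw [f]
    · exact ⟨⟨0, by simp⟩, 1, by simp⟩
    · exact ⟨⟨2, .inl e2.symm⟩, 3, .inl e3.symm⟩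
    · exact ⟨⟨0, by simp⟩, 3, .inr (by rw [e3, yj, mul_assoc])⟩
    · exact ⟨⟨2, .inr (by rw [e2])⟩, 1, .inr (by rw [zpow_one, jy, mul_assoc])⟩
  obtain ⟨i, e | e | e | e⟩ := c.nf x a1 a2
  · obtain ⟨k, f | f⟩ := (key i).1 <;> exact ⟨k, by rw [e, f]; simp⟩
  · obtain ⟨k, f | f⟩ := (key i).1 <;> exact ⟨k, by rw [e, f]; simp [mul_assoc]⟩
  · obtain ⟨k, f | f⟩ := (key i).2 <;> exact ⟨k, by rw [e, f]; simp⟩
  · obtain ⟨k, f | f⟩ := (key i).2 <;> exact ⟨k, by rw [e, mul_assoc, f]; simp [mul_assoc]⟩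

theorem sm (x z : G) : s * (x * z) * s = s * x * s * (s * z * s) := by
  rw [show s * x * s * (s * z * s) = s * x * (s * s) * z * s by group, c.s2]; group

theorem sz (x : G) (k : ℤ) : s * x ^ k * s = (s * x * s) ^ k := by
  have := conj_zpow (a := s) (b := x) (i := k)
  rwa [c.St.si h, eq_comm] at this

theorem dinv (x : G) : s * (x⁻¹ * (s * x * s)) * s = (x⁻¹ * (s * x * s))⁻¹ := by
  rw [c.sm h, c.St.ss h, mul_inv_rev, inv_inv, mul_inv_rev, mul_inv_rev, c.St.si h, mul_assoc s]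

theorem y2 : y * y ≠ 1 := fun e => by
  have := Int.le_of_dvd two_pos ((c.yo h).1 (by rwa [zpow_two]))
  have := one_le_pow₀ (one_le_two (α := ℤ)) (n := n)
  rw [pow_add] at *; omega

/-- type (iv) -/
theorem iv (e : j⁻¹ * (s * j * s) = y) : False := by
  have sy : s * y * s = y⁻¹ := e ▸ c.dinv h j
  have sj : s * j * s = y⁻¹ * j := by
    have := c.jz h 1
    rw [← e, zpow_one, mul_inv_cancel_left, e] at this
    rw [this, zpow_neg_one]
  have syz : ∀ i : ℤ, s * y ^ i * s = y ^ (-i) := fun i => by rw [c.sz h, sy, inv_zpow, zpow_neg]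
  let J : Subgroup G :=
    { carrier := {x | ∃ i : ℤ, x = y ^ i ∨ x = y ^ i * j}
      one_mem' := ⟨0, by simp⟩
      mul_mem' := by
        rintro _ _ ⟨i, rfl | rfl⟩ ⟨k, rfl | rfl⟩
        · exact ⟨i + k, .inl (zpow_add _ _ _).symm⟩
        · exact ⟨i + k, .inr (by rw [zpow_add, mul_assoc])⟩
        · exact ⟨i + -k, .inr (by rw [zpow_add, mul_assoc, mul_assoc, c.jz h])⟩
        · refine ⟨i + -k + (2 ^ (n + 1) : ℕ), .inl ?_⟩
          rw [zpow_add, zpow_add, zpow_natCast, c.ye, ← c.j2, mul_assoc, ← mul_assoc j, c.jz h]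
          group
      inv_mem' := by
        rintro _ ⟨i, rfl | rfl⟩
        · exact ⟨-i, .inl (zpow_neg _ _).symm⟩
        · refine ⟨(2 ^ (n + 1) : ℕ) + i, .inr ?_⟩
          have := c.sqj h 0 i
          rw [zpow_zero, one_mul] at this
          rw [zpow_add, zpow_natCast, c.ye, inv_eq_iff_mul_eq_one, mul_assoc ε, ← mul_assoc,
            ← h.ec, mul_assoc, this, h.e2] }
  have eJ : ε ∈ J := ⟨(2 ^ (n + 1) : ℕ), .inl (by rw [zpow_natCast, c.ye])⟩
  have i2 : ∀ x ∈ S, x * t = t * x → x ∈ J ∨ x * t ∈ J := fun x a1 a2 => by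
    obtain ⟨i, e | e | e | e⟩ := c.nf x a1 a2
    · exact .inl ⟨i, .inl e⟩
    · exact .inr ⟨i, .inl (by rw [a2, e, ← mul_assoc, c.t2, one_mul])⟩
    · exact .inl ⟨i, .inr e⟩
    · exact .inr ⟨i, .inr (by rw [a2, e, ← mul_assoc, ← mul_assoc, c.t2, one_mul])⟩
  refine c.St.fin h (J := J) ?_ ?_ eJ ?_ (fun x a1 a2 a3 => ?_) (.inr i2)
  · rintro _ ⟨i, rfl | rfl⟩
    · simpa [mem_centralizer_singleton_iff] using c.mT h 0 i
    · simpa [mem_centralizer_singleton_iff] using c.mT' h 0 i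
  · rintro ⟨i, e | e⟩
    · have := syz i
      rw [zpow_neg, ← e, c.St.ti h, c.st, mul_eq_right] at this
      exact h.e1 this
    · have := c.sqj h 0 i
      rw [zpow_zero, one_mul, ← e, c.t2] at this
      exact h.e1 this.symm
  · rintro _ ⟨i, rfl | rfl⟩
    · exact ⟨-i, .inl (syz i)⟩
    · exact ⟨-i + -1, .inr (by rw [c.sm h, syz, sj, zpow_add, zpow_neg_one, mul_assoc])⟩
  · refine (i2 x a1 a2).resolve_right fun m => ?_
    have k : x * t * (s * (x * t) * s) = ε := by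
      rw [c.sm h, c.st, show x * t * (s * x * s * (ε * t)) = x * (t * (s * x * s)) * (ε * t) by group,
        ← c.St.sig h a2, ← mul_assoc x, a3, one_mul, ← mul_assoc, ← h.ec, mul_assoc, c.t2, mul_one]
    obtain ⟨i, e | e⟩ := m <;> rw [e] at k
    · rw [syz, ← zpow_add, add_neg_cancel, zpow_zero] at k; exact h.e1 k.symm
    · have := c.sqj h 0 i
      rw [zpow_zero, one_mul, ← k, mul_right_inj, c.sm h, syz, sj, ← mul_assoc, mul_left_inj,
        ← zpow_sub_one, ← mul_inv_eq_one, ← zpow_sub, c.yo h, pow_succ] at this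
      have := (dvd_mul_left 2 _).trans this
      omega

theorem iv' {a i : ℤ} (b k : ℤ) (hi : Odd i)
    (e : (t ^ b * y ^ k * j)⁻¹ * (s * (t ^ b * y ^ k * j) * s) = t ^ a * y ^ i) : False :=
  (c.chg h a b k hi).iv h e

theorem dT {x : G} (a1 : x ∈ S) (a2 : x * t = t * x) :
    x⁻¹ * (s * x * s) ∈ S ∧ x⁻¹ * (s * x * s) * t = t * (x⁻¹ * (s * x * s)) :=
  ⟨S.mul_mem (S.inv_mem a1) (S.mul_mem (S.mul_mem c.sS a1) c.sS),
    (Commute.mul_left (Commute.inv_left a2) (c.St.sig h a2) : _)⟩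

theorem se : s * ε * s = ε := by rw [← h.ec, mul_assoc, c.s2, mul_one]

theorem sU {x : G} (e : InU ε t x) : InU ε t (s * x * s) := by
  rcases e with rfl | rfl | rfl | rfl
  · exact .inl (by rw [mul_one, c.s2])
  · exact .inr (.inl (c.se h))
  · exact .inr (.inr (.inr c.st))
  · exact .inr (.inr (.inl (by rw [c.sm h, c.se h, c.st, ← mul_assoc, h.e2, one_mul])))

omit h c in
theorem ev0 (h : Hy G ε) (c : Cf S ε t s y j 0) (a : ℤ) {i : ℤ} (hi : Even i) :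
    InU ε t (t ^ a * y ^ i) := by
  obtain ⟨l, rfl⟩ := hi
  have y2 : y * y = ε := by simpa [pow_two] using c.ye
  rw [← two_mul, zpow_mul y, zpow_two, y2]
  rcases tz c.t2 a with f | f <;> rcases tz h.e2 l with g | g <;> simp [InU, f, g, h.ec]

omit h c in
theorem zero' (h : Hy G ε) (c : Cf S ε t s y j 0) {x : G} (a1 : x ∈ S) (a2 : x * t = t * x)
    {a i : ℤ} (hi : Odd i) (e : x⁻¹ * (s * x * s) = t ^ a * y ^ i) : False := by
  obtain ⟨b, k, f | f⟩ := c.nf' h a1 a2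
  · have nU : ∀ a : ℤ, ∀ {i : ℤ}, Odd i → ¬ InU ε t (t ^ a * y ^ i) := fun a i hi e => by
      refine (c.chg h a 0 0 hi).y2 h ?_
      rcases e with e | e | e | e <;> rw [e]
      exacts [mul_one _, h.e2, c.t2, by rw [mul_assoc, ← mul_assoc t, ← h.ec, mul_assoc, c.t2,
        mul_one, h.e2]]
    have e2 : s * x * s = t ^ (b + a) * y ^ (k + i) := by
      rw [← c.tym h, ← f, ← e, mul_inv_cancel_left]
    rcases Int.even_or_odd k with hk | hk
    · exact nU _ (hk.add_odd hi) (e2 ▸ c.sU h (f ▸ ev0 h c b hk))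
    · have := c.sU h (e2 ▸ ev0 h c (b + a) (hk.add_odd hi))
      rw [c.St.ss h, f] at this
      exact nU _ hk this
  · exact c.iv' h b k hi (f ▸ e)

omit h c in
theorem zero (hI : CaseI.{u}) (h : Hy G ε) (c : Cf S ε t s y j 0) : False := by
  refine hI G S ε t s y j 0 h c fun x a1 a2 => by_contra fun nU => ?_
  obtain ⟨a, i, e | e⟩ := c.nf' h (c.dT h a1 a2).1 (c.dT h a1 a2).2
  · rcases Int.even_or_odd i with hi | hi
    · exact nU (e ▸ ev0 h c a hi)
    · exact zero' h c a1 a2 hi e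
  · exact zero' h (swap h (c.chg h 0 a i odd_one)) a1 a2 (a := 0) odd_one (by simpa using e)

omit h c in
theorem cen (hI : CaseI.{u}) (hG : CaseG.{u}) (h : Hy G ε) (c : Cf S ε t s y j (n + 1))
    (e : s * y ^ 2 ^ (n + 1) * s = y ^ 2 ^ (n + 1)) : False :=
  hI G S ε t s y j _ h c fun x a1 a2 => by_contra fun nU => hG G S ε t s y j n h c e ⟨x, a1, a2, nU⟩

omit h c in
theorem pos (hI : CaseI.{u}) (hG : CaseG.{u}) (h : Hy G ε) (c : Cf S ε t s y j (n + 1)) : False := by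
  have w2 : y ^ 2 ^ (n + 1) * y ^ 2 ^ (n + 1) = ε := by rw [← pow_two, ← pow_mul, ← pow_succ, c.ye]
  obtain ⟨d, r, sy⟩ : ∃ d r : ℤ, s * y * s = t ^ d * y ^ r := by
    obtain ⟨d, r, e | e⟩ := c.nf' h (S.mul_mem (S.mul_mem c.sS c.yS) c.sS) (c.St.sig h c.yt)
    · exact ⟨d, r, e⟩
    · have h1 := c.sqj h d r
      rw [← e, ← c.sm h, ← c.se h, mul_left_inj, mul_right_inj] at h1
      have := Int.le_of_dvd (by norm_num) ((c.yo h (i := 4)).1 (by
        rw [show (4 : ℤ) = 2 * 2 by norm_num, zpow_mul, zpow_two, zpow_two, h1, h.e2]))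
      have := one_le_pow₀ (one_le_two (α := ℤ)) (n := n)
      rw [add_assoc, pow_add] at *; omega
  have sw : s * y ^ 2 ^ (n + 1) * s = (y ^ 2 ^ (n + 1)) ^ r := by
    rw [← zpow_natCast, c.sz h, sy, c.tyz h, mul_comm r, zpow_mul y]
    push_cast
    rw [pow_succ, ← mul_assoc, mul_two, c.t2z h, one_mul]
  set w := y ^ 2 ^ (n + 1) with hw
  have w4 : ∀ l : ℤ, w ^ (4 * l) = 1 := fun l => by
    rw [zpow_mul, show (4 : ℤ) = 2 * 2 by norm_num, zpow_mul, zpow_two, zpow_two, w2, h.e2, one_zpow]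
  have ro : Odd r := by
    by_contra hr
    obtain ⟨l, rfl⟩ := Int.not_odd_iff_even.1 hr
    rw [← two_mul, zpow_mul, zpow_two, w2] at sw
    have := c.St.ss h w
    rw [sw, c.sz h, c.se h] at this
    rcases tz h.e2 l with f | f <;> rw [← this, f] at w2
    · exact h.e1 (by rw [← w2, mul_one])
    · exact h.e1 (by rw [← w2, h.e2])
  obtain ⟨l, rfl⟩ := ro
  rcases Int.even_or_odd' l with ⟨l, rfl | rfl⟩
  · exact cen hI hG h c (by
      rw [sw, zpow_add, ← mul_assoc, show (2 : ℤ) * 2 = 4 by norm_num, w4, one_mul, zpow_one])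
  have sw' : s * w * s = w⁻¹ := by
    rw [sw, show 2 * (2 * l + 1) + 1 = 4 * (l + 1) + -1 by ring, zpow_add, w4, one_mul, zpow_neg_one]
  have sT : ∀ a i : ℤ, ∃ b k : ℤ, s * (t ^ a * y ^ i) * s = t ^ b * y ^ k := fun a i => by
    have : ε * t = t ^ (1 : ℤ) * y ^ ((2 ^ (n + 1 + 1) : ℕ) : ℤ) := by
      rw [zpow_natCast, c.ye, zpow_one, h.ec]
    rw [c.sm h, c.sz h, c.sz h, c.st, sy, this, c.tyz h, c.tyz h, c.tym h]
    exact ⟨_, _, rfl⟩
  obtain ⟨a, i, e⟩ : ∃ a i : ℤ, j⁻¹ * (s * j * s) = t ^ a * y ^ i := by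
    obtain ⟨a, i, e | e⟩ := c.nf' h (S.mul_mem (S.mul_mem c.sS c.jS) c.sS) (c.St.sig h c.jt)
    · obtain ⟨b, k, f⟩ := sT a i
      rw [← e, c.St.ss h] at f
      refine absurd ?_ (c.y2 h)
      have := c.jy
      rw [f, (((c.cy h).zpow_left b).mul_left ((Commute.refl y).zpow_left k)).eq,
        mul_inv_cancel_right] at this
      exact mul_eq_one_iff_eq_inv.2 this
    · exact ⟨a, -i, by rw [e, inv_mul_eq_iff_eq_mul, c.jty h, neg_neg]⟩
  rcases Int.even_or_odd' i with ⟨i, rfl | rfl⟩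
  swap
  · exact c.iv' h 0 0 (odd_two_mul_add_one i) (by simpa using e)
  obtain ⟨m, q, bz⟩ := (H7.isCoprime_two_pow_of_odd (odd_two_mul_add_one l) (n + 2)).symm
  obtain ⟨u, hu⟩ : ∃ u, u = t ^ (0 : ℤ) * y ^ (m * i) * j := ⟨_, rfl⟩
  have c' := hu ▸ c.chg h 0 0 (m * i) odd_one
  rw [zpow_zero, one_mul, zpow_one] at c'
  have du : u⁻¹ * (s * u * s) = t ^ (d * (m * i) + a) := by
    rw [inv_mul_eq_iff_eq_mul, hu, zpow_zero, one_mul, c.sm h, c.sz h, sy,
      inv_mul_eq_iff_eq_mul.1 e, c.jty h, c.tyz h, ← mul_assoc, c.tym h, mul_assoc (y ^ (m * i)),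
      ← ((c.cj h).zpow_left _).eq, ← mul_assoc (y ^ (m * i)), ← ((c.cy h).zpow_zpow _ _).eq,
      show (2 * (2 * l + 1) + 1) * (m * i) + -(2 * i) = m * i + 2 ^ (n + 1 + 2) * (-q * i) by
        linear_combination 2 * i * bz, zpow_add y, (c.yo h).2 (dvd_mul_right _ _), mul_one]
  have su : s * u * s = u := by
    rcases tz c.t2 (d * (m * i) + a) with f | f
    · rw [f, inv_mul_eq_one] at du; exact du.symm
    · have := c.dinv h u
      rw [du, f, c.st, c.St.ti h, mul_eq_right] at this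
      exact absurd this h.e1
  have us : u * s = s * u := by rw [← mul_left_inj s, su, mul_assoc, c.s2, mul_one]
  have cu : Commute u (t * s) := Commute.mul_right c'.jt us
  have uw : u * w = w⁻¹ * u := by rw [← mul_inv_eq_iff_eq_mul, hw, ← conj_pow, c'.jy, inv_pow]
  have wt : w * t = t * w := ((c.cy h).pow_right _).symm
  have s2 : t * s * u * (t * s * u) = 1 := by
    rw [cu.mul_mul_mul_comm, c.St.ts2 h, c'.j2, h.e2]
  have si : t * s * u = (t * s * u)⁻¹ := eq_inv_of_mul_eq_one_right s2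
  have st : t * s * u * t * (t * s * u) = ε * t := by
    nth_rw 2 [si]
    rw [mul_assoc _ u, c'.jt, mul_inv_rev, mul_inv_rev, c.St.si h, c.St.ti h,
      show t * s * (t * u) * (u⁻¹ * (s * t)) = t * (s * t * s) * t by group, c.st, ← mul_assoc,
      ← h.ec, mul_assoc ε, c.t2, mul_one]
  refine cen hI hG h (s := t * s * u) (y := y) (j := u) ⟨c.syl, c.tS, S.mul_mem (S.mul_mem c.tS c.sS)
    c'.jS, c.yS, c'.jS, c.t2, c.t1, c.te, s2, st, fun x hx => (c.idx x hx).imp_right fun e => ?_,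
    c.yt, c'.jt, c.oy, c.ye, c'.j2, c'.jy, c'.nf, c.zc⟩ ?_
  · have : x * (t * s * u) = ε * (x * s * (t * u)) := by
      rw [mul_assoc x s, ← mul_assoc s, c.St.st' h, ← mul_assoc ε, h.ec x, mul_assoc ε, mul_assoc x,
        ← mul_assoc ε, h.e2, one_mul]
    rw [this]
    exact (Commute.mul_left (h.ec t) (Commute.mul_left e (Commute.mul_left rfl c'.jt)) : _)
  · nth_rw 2 [si]
    rw [← hw, mul_assoc _ u, uw, mul_inv_rev, mul_inv_rev, c.St.si h, c.St.ti h,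
      show t * s * (w⁻¹ * u) * (u⁻¹ * (s * t)) = t * (s * w⁻¹ * s) * t by group, ← sw', c.St.ss h,
      ← wt, mul_assoc, c.t2, mul_one]

end Cf

theorem tbThm (hI : CaseI.{u}) (hG : CaseG.{u}) : TBThm.{u} := fun G _ _ ε h t t2 => by
  by_contra! hh
  obtain ⟨S, t, s, c⟩ := h.ex_St t2 hh.1 hh.2
  obtain ⟨y, j, _ | n, c⟩ := c.ex_Cf h
  exacts [c.zero hI h, c.pos hI hG h]

end Cfsg.Agent.DR
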